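import Mathlib
import Cfsg.Agent.Blocks.IBr.Lift
import Cfsg.Agent.Blocks.IBr.Degrees
import Cfsg.Agent.Blocks.RealTwo
import Cfsg.Agent.Blocks.Orth2

/-!
# Duality of modular characters

The inverse map of the group induces a permutation of the modular characters. In a block closed under
complex conjugation some modular character is self dual, for the prime two.
-/

set_option autoImplicit false
set_option linter.unusedSectionVars false
set_option linter.style.haveILetI false

namespace Cfsg.Lib.Blocks.SigmaTwist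

open Cfsg.Lib.Chars Cfsg.Lib.Blocks Cfsg.Lib.Blocks.IBr Cfsg.Lib.Blocks.Star
  Cfsg.Lib.Blocks.TwoMember Polynomial
open scoped ComplexConjugate Classical

universe u

variable {G : Type u} [Group G] [Fintype G] {M : Ideal AlgInt} {p : ℕ}

/-- The antipode of the group algebra. -/
noncomputable def antipode (R : Type*) [CommRing R] (G : Type u) [Group G] :
    MonoidAlgebra R G →ₐ[R] (MonoidAlgebra R G)ᵐᵒᵖ :=
  MonoidAlgebra.lift R (MonoidAlgebra R G)ᵐᵒᵖ G
    { toFun := fun g => MulOpposite.op (MonoidAlgebra.single g⁻¹ 1)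
      map_one' := by rw [inv_one, ← MonoidAlgebra.one_def, MulOpposite.op_one]
      map_mul' := fun a b => by
        rw [← MulOpposite.op_mul, MonoidAlgebra.single_mul_single, mul_one, mul_inv_rev] }

lemma antipode_single (R : Type*) [CommRing R] (g : G) (r : R) :
    MulOpposite.unop (antipode R G (MonoidAlgebra.single g r)) = MonoidAlgebra.single g⁻¹ r := by
  simp [antipode, MonoidAlgebra.lift_single, MonoidAlgebra.smul_single]

/-- The dual of a modular character is a combination with natural coefficients. -/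
theorem exists_phi_inv (hM : IsPModular p M) (i : Ix M G) :
    ∃ r : Ix M G → ℕ, ∀ g : G, ¬ p ∣ orderOf g →
      phi p M i g⁻¹ = ∑ j, (r j : ℂ) * phi p M j g := by
  let ι : MonoidAlgebra (Res M) G → MonoidAlgebra (Res M) G :=
    fun a => MulOpposite.unop (antipode (Res M) G a)
  have ιmul : ∀ a b, ι (a * b) = ι b * ι a := fun a b => by simp [ι]
  have ιadd : ∀ a b, ι (a + b) = ι a + ι b := fun a b => by simp [ι]
  have ιzero : ι 0 = 0 := by simp [ι]
  refine ⟨fun j => (sys M G).mu i (ι ((sys M G).eps j)), fun g hg => ?_⟩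
  have ho : orderOf g⁻¹ = orderOf g := orderOf_inv g
  rw [phi_regular _ (ho.symm ▸ hg), ho]
  simp only [phi_regular _ hg, Finset.mul_sum]
  rw [Finset.sum_comm]
  refine Finset.sum_congr rfl fun l hl => ?_
  have hl' := mem_roots hl
  have hmap : ι (red M (eigC g l)) = red M (eigC g⁻¹ l) := by
    rw [red_eigC hM hg hl', red_eigC hM (ho.symm ▸ hg) (ho.symm ▸ hl'), ho]
    show MulOpposite.unop (antipode (Res M) G _) = _
    rw [map_sum, Finset.unop_sum]
    refine Finset.sum_congr rfl fun j _ => ?_
    rw [antipode_single, ← inv_pow g j]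
  have hadd := (sys M G).additive_eq_sum (fun a => (sys M G).mu i (ι a))
    (by rw [ιzero, SimpleSystem.mu_zero])
    (fun e e' he he' h0 h0' => by
      rw [ιadd]
      exact (sys M G).mu_add (by rw [← ιmul, he]) (by rw [← ιmul, he'])
        (by rw [← ιmul, h0', ιzero]) (by rw [← ιmul, h0, ιzero]) i)
    (fun e e' he he' h0 => by
      obtain ⟨a, b, h1, h2⟩ := h0
      exact (sys M G).mu_equiv (by rw [← ιmul, he]) (by rw [← ιmul, he'])
        ⟨ι b, ι a, by rw [← ιmul, h1], by rw [← ιmul, h2]⟩ i)
    (red_eigC_idem hM hg hl')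
  rw [← hmap, hadd, Nat.cast_sum, Finset.mul_sum]
  refine Finset.sum_congr rfl fun j _ => ?_
  rw [smul_eq_mul, Nat.cast_mul]
  ring

/-- **The dual of a simple module.** -/
theorem exists_dual (hM : IsPModular p M) :
    ∃ σ : Ix M G → Ix M G, Function.Involutive σ ∧
      ∀ (i : Ix M G) (g : G), phi p M i g⁻¹ = phi p M (σ i) g := by
  choose r hr using fun i : Ix M G => exists_phi_inv (p := p) hM i
  have hsq : ∀ i l, ∑ j, r i j * r j l = if i = l then 1 else 0 := by
    intro i l
    have h := congrFun (eq_zero_of_sum_phi hM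
      (fun l => ((∑ j, r i j * r j l : ℕ) : ℂ) - if i = l then 1 else 0) fun g hg => ?_) l
    · simp only [Pi.zero_apply, sub_eq_zero] at h
      split_ifs at h ⊢ <;> exact_mod_cast h
    · simp only [sub_mul, Finset.sum_sub_distrib, ite_mul, one_mul, zero_mul, Finset.sum_ite_eq,
        Finset.mem_univ, if_true, Nat.cast_sum, Nat.cast_mul, Finset.sum_mul, mul_assoc]
      rw [Finset.sum_comm]
      simp only [← Finset.mul_sum, ← hr _ g hg]
      rw [← hr i g⁻¹ (by rwa [orderOf_inv]), inv_inv, sub_self]
  have hex : ∀ i, ∃ j, r i j * r j i ≠ 0 := fun i => by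
    by_contra h
    push Not at h
    have := hsq i i
    rw [Finset.sum_eq_zero fun j _ => h j, if_pos rfl] at this
    omega
  choose σ hσ using hex
  have h1 : ∀ i, r i (σ i) = 1 ∧ r (σ i) i = 1 := fun i => by
    have h2 : r i (σ i) * r (σ i) i ≤ 1 := by
      have := Finset.single_le_sum (f := fun j => r i j * r j i) (fun _ _ => Nat.zero_le _)
        (Finset.mem_univ (σ i))
      rwa [hsq i i, if_pos rfl] at this
    have h3 : r i (σ i) * r (σ i) i = 1 := le_antisymm h2 (Nat.pos_of_ne_zero (hσ i))
    exact ⟨Nat.eq_one_of_mul_eq_one_right h3, Nat.eq_one_of_mul_eq_one_left h3⟩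
  have hrow : ∀ i l, l ≠ i → r (σ i) l = 0 := fun i l hl => by
    have := hsq i l
    rw [if_neg (Ne.symm hl), Finset.sum_eq_zero_iff] at this
    have h2 := this (σ i) (Finset.mem_univ _)
    rwa [(h1 i).1, one_mul] at h2
  have hinv : Function.Involutive σ := fun i => by
    by_contra hne
    have h2 := (h1 (σ i)).1
    rw [hrow i _ hne] at h2
    exact zero_ne_one h2
  refine ⟨σ, hinv, fun i g => ?_⟩
  by_cases hg : p ∣ orderOf g
  · rw [phi_singular _ hg, phi_singular _ (by rwa [orderOf_inv])]
  · have hrow' : ∀ l, l ≠ σ i → r i l = 0 := fun l hl => by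
      have := hrow (σ i) l hl
      rwa [hinv i] at this
    rw [hr i g hg, Finset.sum_eq_single (σ i) (fun l _ hl => by
      rw [hrow' l hl, Nat.cast_zero, zero_mul]) (by simp), (h1 i).1, Nat.cast_one, one_mul]

/-- Conjugation of ordinary characters is compatible with duality. -/
theorem dec_conjIrr (hM : IsPModular p M) {σ : Ix M G → Ix M G} (hσ : Function.Involutive σ)
    (hphi : ∀ (i : Ix M G) (g : G), phi p M i g⁻¹ = phi p M (σ i) g) (χ : IrrCharacter G)
    (i : Ix M G) : dec M (conjIrr χ) i = dec M χ (σ i) := by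
  have h := congrFun (eq_zero_of_sum_phi hM
    (fun i => (dec M (conjIrr χ) i : ℂ) - (dec M χ (σ i) : ℂ)) fun g hg => ?_) i
  · simp only [Pi.zero_apply, sub_eq_zero] at h
    exact_mod_cast h
  · simp only [sub_mul, Finset.sum_sub_distrib]
    rw [← apply_eq_sum_dec hM (conjIrr χ) hg, conjIrr_apply,
      apply_eq_sum_dec hM χ (show ¬ p ∣ orderOf g⁻¹ by rwa [orderOf_inv]), sub_eq_zero]
    refine Fintype.sum_equiv hσ.toPerm _ _ fun j => ?_
    show _ = (dec M χ (σ (σ j)) : ℂ) * phi p M (σ j) g
    rw [hσ j, hphi]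

/-- A block closed under conjugation has a self dual modular character. -/
theorem exists_selfdual (hM : IsPModular 2 M) {B : Set (IrrCharacter G)} (hB : IsPBlock M B)
    (hstab : ∀ χ ∈ B, conjIrr χ ∈ B) {σ : Ix M G → Ix M G} (hσ : Function.Involutive σ)
    (hphi : ∀ (i : Ix M G) (g : G), phi 2 M i g⁻¹ = phi 2 M (σ i) g) :
    ∃ i, InBlk M B i ∧ σ i = i := by
  by_contra hno
  push Not at hno
  haveI := charP_res hM
  have hdeg : ∀ χ : IrrCharacter G, deg (conjIrr χ : G → ℂ) = deg (χ : G → ℂ) := fun χ => by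
    unfold Cfsg.Lib.Chars.deg
    rw [conjIrr_apply, inv_one]
  have hconj2 : Function.Involutive (conjIrr : IrrCharacter G → IrrCharacter G) := fun χ =>
    Subtype.ext (funext fun g => by rw [conjIrr_apply, conjIrr_apply, inv_inv])
  have hpd : ∀ i, pdeg M (σ i) = pdeg M i := fun i => by
    refine Fintype.sum_equiv hconj2.toPerm _ _ fun χ => ?_
    show _ = dec M (conjIrr χ) i * deg (conjIrr χ : G → ℂ)
    rw [dec_conjIrr hM hσ hphi, hdeg]
  have hblk : ∀ i, InBlk M B i → InBlk M B (σ i) := fun i hi => by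
    obtain ⟨χ, hχ⟩ := exists_dec_ne_zero hM i
    have hχB : χ ∈ B := by
      by_contra h
      exact hχ (dec_eq_zero_of_inBlk hM hB hi h)
    refine inBlk_of_dec hM hB (hstab χ hχB) ?_
    rwa [dec_conjIrr hM hσ hphi, hσ i]
  -- the idempotent on real elements
  set a := (Nat.card G).factorization 2 with ha
  have hcoef : ∀ x : G, IsConj x x⁻¹ → res M (blockCoeff B x) = 0 := by
    intro x hx
    by_cases h2 : 2 ∣ orderOf x
    · rw [blockCoeff_eq_zero_of_singular hM hB h2, res_zero]
    obtain ⟨m, hm⟩ : 2 ^ a ∣ Nat.card G := Nat.ordProj_dvd _ _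
    have hmodd : ¬ 2 ∣ m := by
      have := Nat.not_dvd_ordCompl hM.1 (Nat.card_pos (α := G)).ne'
      rwa [← ha, show Nat.card G / 2 ^ a = m by rw [hm, Nat.mul_div_cancel_left _ (by positivity)]] at this
    choose q hq using fun i : Ix M G => pow_dvd_pdeg (p := 2) hM i
    have hinvreg : ¬ 2 ∣ orderOf x⁻¹ := by rwa [orderOf_inv]
    set F : Ix M G → ℂ := fun i => (m : ℂ)⁻¹ * ((q i : ℂ) * phi 2 M i x⁻¹) with hF
    have hFp : ∀ i, F i ∈ place M := fun i => mul_mem
      (IsUnitAt.inv (isUnitAt_natCast hM hmodd)).mem_place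
      (mul_mem (natCast_mem_place _) (phi_mem_place i _))
    have heq : blockCoeff B x = ∑ i ∈ Finset.univ.filter (InBlk M B), F i := by
      have h1 : ∑ χ ∈ Finset.univ.filter (· ∈ B), (χ : G → ℂ) 1 * conj ((χ : G → ℂ) x) =
          ∑ i ∈ Finset.univ.filter (InBlk M B), (pdeg M i : ℂ) * phi 2 M i x⁻¹ := by
        calc _ = ∑ χ ∈ Finset.univ.filter (· ∈ B), ∑ i,
              (dec M χ i : ℂ) * (deg (χ : G → ℂ) : ℂ) * phi 2 M i x⁻¹ :=
              Finset.sum_congr rfl fun χ _ => by
                rw [← IsCharacter.conj_inv (isCharacter_of_irr χ.2) x,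
                  apply_eq_sum_dec hM χ hinvreg, irr_apply_one_eq_deg, Finset.mul_sum]
                exact Finset.sum_congr rfl fun i _ => by ring
          _ = _ := by
              rw [Finset.sum_comm, Finset.sum_filter (p := InBlk M B)]
              refine Finset.sum_congr rfl fun i _ => ?_
              split_ifs with hi
              · rw [pdeg_eq_sum_block hM hB hi, Nat.cast_sum, Finset.sum_mul]
                exact Finset.sum_congr rfl fun χ _ => by rw [Nat.cast_mul]
              · refine Finset.sum_eq_zero fun χ hχ => ?_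
                have h0 : dec M χ i = 0 := by
                  by_contra h
                  exact hi (inBlk_of_dec hM hB (Finset.mem_filter.1 hχ).2 h)
                rw [h0, Nat.cast_zero, zero_mul, zero_mul]
      rw [blockCoeff_eq_sum, h1, Finset.mul_sum]
      refine Finset.sum_congr rfl fun i _ => ?_
      rw [hF, hq i, ← ha, hm]
      push_cast
      have hm0 : (m : ℂ) ≠ 0 := by
        rw [Nat.cast_ne_zero]; rintro rfl; exact hmodd (dvd_zero _)
      field_simp
    rw [heq, res_sum _ _ fun i _ => hFp i]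
    refine Finset.sum_involution (fun i _ => σ i) (fun i _ => ?_) (fun i hi _ => ?_) (fun i hi => ?_)
      fun i _ => hσ i
    · have hqq : q (σ i) = q i := by
        have h := hpd i
        rw [hq i, hq (σ i)] at h
        exact Nat.eq_of_mul_eq_mul_left (by positivity) h
      have hphx : phi 2 M (σ i) x⁻¹ = phi 2 M i x⁻¹ := by
        obtain ⟨c, hc⟩ := isConj_iff.1 hx
        rw [← hphi, inv_inv, ← hc, isClassFunction_phi hM i]
      simp only [hF, hqq, hphx]
      exact CharTwo.add_self_eq_zero _
    · exact hno i (Finset.mem_filter.1 hi).2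
    · exact Finset.mem_filter.2 ⟨Finset.mem_univ _, hblk i (Finset.mem_filter.1 hi).2⟩
  -- the central character
  obtain ⟨χ, hχ⟩ := IsPBlock.nonempty hM hB
  haveI : Fintype (ConjClasses G) := Fintype.ofFinite _
  have hw := omega_eq_sum_classes (χ : G → ℂ) (isClassFunction_irr χ) (isCentralFn_blockElem B)
  rw [omega_blockElem, if_pos hχ] at hw
  have hterm : ∀ x : G, blockCoeff B x * centralChar (χ : G → ℂ) x ∈ place M := fun x =>
    mul_mem (blockCoeff_mem_place hM hB x) (centralChar_mem_place hM χ x)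
  let J : ConjClasses G → ConjClasses G := fun C => ConjClasses.mk (crep C)⁻¹
  have hJ : ∀ C, IsConj (crep (J C)) (crep C)⁻¹ := fun C => isConj_crep_mk _
  have hJJ : ∀ C, J (J C) = C := fun C => by
    conv_rhs => rw [← mk_crep C]
    refine ConjClasses.mk_eq_mk_iff_isConj.2 ?_
    obtain ⟨c, hc⟩ := isConj_iff.1 (hJ C)
    exact isConj_iff.2 ⟨c, by
      rw [← inv_inv (crep C), ← hc]
      group⟩
  apply one_ne_zero (α := Res M)
  rw [← res_one (M := M), hw, res_sum _ _ fun C _ => by rw [fn_blockElem]; exact hterm _]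
  refine Finset.sum_involution (fun C _ => J C) (fun C _ => ?_) (fun C _ hne => ?_)
    (fun C _ => Finset.mem_univ _) fun C _ => hJJ C
  · simp only [fn_blockElem]
    obtain ⟨c, hc⟩ := isConj_iff.1 (hJ C)
    have hb : blockCoeff B (crep (J C)) = blockCoeff B (crep C) := by
      rw [← blockCoeff_inv_of_conj_stable hstab (crep C), ← hc, blockCoeff_conj]
    have hcc : res M (centralChar (χ : G → ℂ) (crep (J C))) =
        res M (centralChar (χ : G → ℂ) (crep C)) := by
      rw [← omega_cls_irr, ← omega_cls_irr, ← (show cls ℂ (crep C)⁻¹ = cls ℂ (crep (J C)) from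
        fn_ext fun y => by
          rw [fn_cls, fn_cls]
          exact if_congr ⟨fun h => (hJ C).trans h, fun h => (hJ C).symm.trans h⟩ rfl rfl),
        omega_cls_irr, omega_cls_irr, ← centralChar_conjIrr]
      exact IsPBlock.res_centralChar_eq hM hB (hstab χ hχ) hχ _
    rw [hb, res_mul (blockCoeff_mem_place hM hB _) (centralChar_mem_place hM χ _),
      res_mul (blockCoeff_mem_place hM hB _) (centralChar_mem_place hM χ _), hcc]
    exact CharTwo.add_self_eq_zero _
  · intro hfix
    refine hne ?_
    have hr : IsConj (crep C) (crep C)⁻¹ := by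
      have := hJ C
      rwa [hfix] at this
    rw [fn_blockElem, res_mul (blockCoeff_mem_place hM hB _) (centralChar_mem_place hM χ _),
      hcoef _ hr, zero_mul]

end Cfsg.Lib.Blocks.SigmaTwist
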