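import Mathlib
import Cfsg.Agent.Blocks.SectionRanks
import Cfsg.Agent.Blocks.SigmaTwist.Dual
import Cfsg.Agent.Chars.Galois

/-!
# Counting the characters fixed by the twisted Galois automorphism

For `k` acting trivially on the `2`-elements and by inversion on the elements of odd order, the
trace of `χ ↦ χ (· ^ k)` on a block is a sum over the sections of numbers of self dual modular
characters.
-/

set_option autoImplicit false
set_option linter.unusedSectionVars false
set_option linter.style.haveILetI false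

namespace Cfsg.Lib.Blocks.SigmaTwist

open Cfsg.Lib.Chars Cfsg.Lib.Blocks Cfsg.Lib.Blocks.IBr
open scoped ComplexConjugate Classical

universe u

variable {G : Type u} [Group G] [Fintype G] {M : Ideal AlgInt} {p : ℕ}

/-- The regular diagonal of a block kernel twisted by inversion. -/
theorem sum_colKer_inv (hM : IsPModular p M) {b : Set (IrrCharacter G)} (hb : IsPBlock M b)
    {σ : Ix M G → Ix M G} (hphi : ∀ (i : Ix M G) (g : G), phi p M i g⁻¹ = phi p M (σ i) g) :
    ∑ w ∈ Finset.univ.filter (fun w : G => ¬ p ∣ orderOf w), colKer b w⁻¹ w =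
      (Nat.card G : ℂ) * ((Finset.univ.filter (fun i => InBlk M b i ∧ σ i = i)).card : ℂ) := by
  have hinner : ∀ (j : Ix M G) (χ : IrrCharacter G),
      ∑ w ∈ Finset.univ.filter (fun w : G => ¬ p ∣ orderOf w), phi p M j w * conj ((χ : G → ℂ) w) =
        (Nat.card G : ℂ) * classInner (phi p M j) (χ : G → ℂ) := fun j χ => by
    rw [classInner_def, mul_inv_cancel_left₀ (Nat.cast_ne_zero.2 Nat.card_pos.ne'), Finset.sum_filter]
    refine Finset.sum_congr rfl fun w _ => ?_
    by_cases hw : p ∣ orderOf w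
    · rw [if_neg (not_not.2 hw), phi_singular _ hw, zero_mul]
    · rw [if_pos hw]
  have hexp : ∀ (j : Ix M G), ∀ g : G, ¬ p ∣ orderOf g →
      phi p M j g = ∑ χ : IrrCharacter G, classInner (phi p M j) (χ : G → ℂ) * (χ : G → ℂ) g :=
    fun j g _ => classFunction_expand_apply (isClassFunction_phi hM j) g
  have hstep : ∀ w ∈ Finset.univ.filter (fun w : G => ¬ p ∣ orderOf w), colKer b w⁻¹ w =
      ∑ χ ∈ Finset.univ.filter (· ∈ b), ∑ i,
        (dec M χ i : ℂ) * (phi p M (σ i) w * conj ((χ : G → ℂ) w)) := by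
    intro w hw
    rw [colKer_eq]
    refine Finset.sum_congr rfl fun χ _ => ?_
    rw [apply_eq_sum_dec hM χ (show ¬ p ∣ orderOf w⁻¹ by
      rw [orderOf_inv]; exact (Finset.mem_filter.1 hw).2), Finset.sum_mul]
    exact Finset.sum_congr rfl fun i _ => by rw [hphi, mul_assoc]
  rw [Finset.sum_congr rfl hstep, Finset.sum_comm]
  simp_rw [Finset.sum_comm (s := Finset.univ.filter (fun w : G => ¬ p ∣ orderOf w)),
    ← Finset.mul_sum, hinner]
  rw [Finset.sum_comm, ← Finset.sum_boole, Finset.mul_sum]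
  refine Finset.sum_congr rfl fun i _ => ?_
  by_cases hi : InBlk M b i
  · have hdelta : ∑ χ ∈ Finset.univ.filter (· ∈ b),
        classInner (phi p M (σ i)) (χ : G → ℂ) * (dec M χ i : ℂ) = if i = σ i then 1 else 0 := by
      rw [← coeff_of_eq hM (hexp (σ i)) i]
      exact Finset.sum_subset (Finset.subset_univ _) fun χ _ hχ => by
        rw [dec_eq_zero_of_inBlk hM hb hi (by simpa using hχ), Nat.cast_zero, mul_zero]
    rw [Finset.sum_congr rfl fun (χ : IrrCharacter G) _ => show (dec M χ i : ℂ) *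
      ((Nat.card G : ℂ) * classInner (phi p M (σ i)) (χ : G → ℂ)) =
      (Nat.card G : ℂ) * (classInner (phi p M (σ i)) (χ : G → ℂ) * (dec M χ i : ℂ)) by ring,
      ← Finset.mul_sum, hdelta]
    congr 1
    simp [hi, eq_comm]
  · rw [if_neg (fun h => hi h.1), mul_zero]
    refine Finset.sum_eq_zero fun χ hχ => ?_
    have h0 : dec M χ i = 0 := by
      by_contra h
      exact hi (inBlk_of_dec hM hb (Finset.mem_filter.1 hχ).2 h)
    rw [h0, Nat.cast_zero, zero_mul]

/-- Characters of `B` fixed by the twist. -/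
def fixedIn (B : Set (IrrCharacter G)) (k : ℕ) : Set (IrrCharacter G) :=
  {χ | χ ∈ B ∧ ∀ g : G, (χ : G → ℂ) (g ^ k) = (χ : G → ℂ) g}

/-- A twist is coprime to the order of the group. -/
theorem coprime_twist {k : ℕ} (hk1 : ∀ g : G, (∃ j : ℕ, orderOf g = 2 ^ j) → g ^ k = g)
    (hk2 : ∀ g : G, Odd (orderOf g) → g ^ k = g⁻¹) : k.Coprime (Nat.card G) := by
  refine Nat.coprime_of_dvd fun q hq hqk hqG => ?_
  haveI := Fact.mk hq
  obtain ⟨g, hg⟩ := exists_prime_orderOf_dvd_card' q hqG
  have h1 : g ^ k = 1 := orderOf_dvd_iff_pow_eq_one.1 (hg ▸ hqk)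
  have hg1 : g ≠ 1 := fun h => hq.ne_one (by rw [← hg, h, orderOf_one])
  rcases hq.eq_two_or_odd' with rfl | hodd
  · exact hg1 (by rw [← hk1 g ⟨1, by rw [hg, pow_one]⟩, h1])
  · exact hg1 (by rw [← inv_eq_one, ← hk2 g (hg ▸ hodd), h1])

/-- **Fixed characters.** There are at least as many fixed characters in `B` as self dual modular
characters in `B` and in any one further section. -/
theorem fixed_count (hM : IsPModular 2 M) {B : Set (IrrCharacter G)} (hB : IsPBlock M B) {k : ℕ}
    (hk1 : ∀ g : G, (∃ j : ℕ, orderOf g = 2 ^ j) → g ^ k = g)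
    (hk2 : ∀ g : G, Odd (orderOf g) → g ^ k = g⁻¹) (hstab : ∀ χ ∈ B, conjIrr χ ∈ B) :
    1 ≤ (fixedIn B k).ncard ∧
      ∀ x ∈ pElements 2 G, ∀ b : Set (IrrCharacter (Subgroup.centralizer ({x} : Set G))),
        IsInducedBlock M (Subgroup.centralizer ({x} : Set G)) b B → (∀ χ ∈ b, conjIrr χ ∈ b) →
          2 ≤ (fixedIn B k).ncard := by
  obtain ⟨σ, hσ2, hσ⟩ := exists_dual (G := G) hM
  haveI : NeZero (Nat.card G) := ⟨Nat.card_pos.ne'⟩
  have hk := coprime_twist hk1 hk2
  obtain ⟨τ, hτ⟩ := exists_galConj_auto hk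
  have hirr : ∀ χ : IrrCharacter G, IsIrrCharacter G (fun g => (χ : G → ℂ) (g ^ k)) := fun χ => by
    have := IsIrrCharacter.map_auto χ.2 τ
    rwa [show (fun g => τ ((χ : G → ℂ) g)) = fun g => (χ : G → ℂ) (g ^ k) from
      funext fun g => hτ.apply_character (isCharacter_of_irr χ.2) (orderOf_dvd_natCard g)] at this
  let f : IrrCharacter G → IrrCharacter G := fun χ => ⟨fun g => (χ : G → ℂ) (g ^ k), hirr χ⟩
  set N := (fixedIn B k).ncard
  have htot : ∑ g : G, colKer B (g ^ k) g = (Nat.card G : ℂ) * (N : ℂ) := by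
    have h1 : ∀ χ : IrrCharacter G, ∑ g : G, (χ : G → ℂ) (g ^ k) * conj ((χ : G → ℂ) g) =
        (Nat.card G : ℂ) * (if f χ = χ then 1 else 0) := fun χ => by
      rw [← classInner_irrCharacter (f χ) χ, classInner_def,
        mul_inv_cancel_left₀ (Nat.cast_ne_zero.2 Nat.card_pos.ne')]
    simp only [colKer_eq]
    rw [Finset.sum_comm, Finset.sum_congr rfl fun χ _ => h1 χ, ← Finset.mul_sum, Finset.sum_boole,
      Finset.filter_filter]
    congr 2
    rw [show N = (fixedIn B k).ncard from rfl, ← Set.ncard_coe_finset]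
    congr 1
    ext χ
    simp only [Finset.mem_coe, Finset.mem_filter, Finset.mem_univ, true_and, fixedIn,
      Set.mem_ofPred_eq, f, Subtype.ext_iff, funext_iff]
  have hreg : ∀ g : G, ¬ 2 ∣ orderOf g → g ^ k = g⁻¹ := fun g hg =>
    hk2 g (Nat.odd_iff.2 (by omega))
  -- a section
  have hsect : ∀ x ∈ pElements 2 G, ∃ r : ℕ,
      (∑ w ∈ Finset.univ.filter (fun w : Subgroup.centralizer ({x} : Set G) => ¬ 2 ∣ orderOf w),
        colKer B ((x * (w : G)) ^ k) (x * (w : G)) = (r : ℂ)) ∧
      ∀ b : Set (IrrCharacter (Subgroup.centralizer ({x} : Set G))),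
        IsInducedBlock M (Subgroup.centralizer ({x} : Set G)) b B → (∀ χ ∈ b, conjIrr χ ∈ b) →
          0 < r := by
    intro x hx
    obtain ⟨-, hxk⟩ := mem_pElements.1 hx
    set C := Subgroup.centralizer ({x} : Set G) with hC
    have hH : C = Subgroup.centralizer (Subgroup.zpowers x : Set G) := (centralizer_zpowers x).symm
    obtain ⟨τC, hτC2, hτC⟩ := exists_dual (G := C) hM
    set cnt : Set (IrrCharacter C) → ℕ :=
      fun b => (Finset.univ.filter (fun i => InBlk M b i ∧ τC i = i)).card with hcnt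
    set T := (blocksFinset M C).filter (fun b => IsInducedBlock M C b B) with hT
    refine ⟨Nat.card C * ∑ b ∈ T, cnt b, ?_, fun b hb hbs => ?_⟩
    · have hsec : ∀ w ∈ Finset.univ.filter (fun w : C => ¬ 2 ∣ orderOf w),
          colKer B ((x * (w : G)) ^ k) (x * (w : G)) = ∑ b ∈ T, colKer b w⁻¹ w := by
        intro w hw
        have hw' := (Finset.mem_filter.1 hw).2
        rw [(commute_of_mem_centralizer hH w.2).mul_pow, hk1 x hxk,
          hreg (w : G) (by rwa [Subgroup.orderOf_coe]), ← Subgroup.coe_inv,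
          colKer_section hM hxk hH hB (by rwa [orderOf_inv]) hw']
      rw [Finset.sum_congr rfl hsec, Finset.sum_comm, Finset.sum_congr rfl fun b hb =>
        sum_colKer_inv hM (Finset.mem_filter.1 hb).2.1 hτC, ← Finset.mul_sum]
      push_cast
      rfl
    · refine Nat.mul_pos Nat.card_pos ?_
      obtain ⟨i, hi1, hi2⟩ := exists_selfdual hM hb.1 hbs hτC2 hτC
      refine lt_of_lt_of_le ?_ (Finset.single_le_sum (f := cnt) (fun _ _ => Nat.zero_le _)
        (Finset.mem_filter.2 ⟨(mem_blocksFinset hM).2 hb.1, hb⟩ : b ∈ T))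
      exact Finset.card_pos.2 ⟨i, Finset.mem_filter.2 ⟨Finset.mem_univ _, hi1, hi2⟩⟩
  choose r hr hrpos using hsect
  choose pp hpp using fun g : G => exists_isPPart' hM.1 g
  have hsing : ∑ g ∈ Finset.univ.filter (fun g : G => 2 ∣ orderOf g), colKer B (g ^ k) g =
      ((∑ x ∈ (pElements 2 G).attach, r x.1 x.2 : ℕ) : ℂ) := by
    rw [← Finset.sum_fiberwise_of_maps_to (g := pp) (t := pElements 2 G) (fun g hg => ?_), Nat.cast_sum,
      ← Finset.sum_attach]
    swap
    · rw [mem_pElements]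
      obtain ⟨y, hy, hc, hk', hny⟩ := hpp g
      refine ⟨fun h1 => ?_, hk'⟩
      rw [h1, one_mul] at hy
      exact hny (hy ▸ (Finset.mem_filter.1 hg).2)
    refine Finset.sum_congr rfl fun x _ => ?_
    rw [← hr x.1 x.2]
    obtain ⟨hx1, hxk⟩ := mem_pElements.1 x.2
    have hH : Subgroup.centralizer ({x.1} : Set G) = Subgroup.centralizer (Subgroup.zpowers x.1 : Set G) :=
      (centralizer_zpowers x.1).symm
    symm
    refine Finset.sum_nbij (fun w : Subgroup.centralizer ({x.1} : Set G) => x.1 * (w : G)) (fun w hw => ?_)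
      (fun w _ w' _ h => Subtype.ext (mul_left_cancel h)) (fun g hg => ?_) fun w _ => rfl
    · have hw' := (Finset.mem_filter.1 hw).2
      rw [← Subgroup.orderOf_coe] at hw'
      have hpart := isPPart_mul (commute_of_mem_centralizer hH w.2) hxk hw'
      refine Finset.mem_filter.2 ⟨Finset.mem_filter.2 ⟨Finset.mem_univ _, ?_⟩,
        IsPPart.eq hM.1 (hpp _) hpart⟩
      by_contra hd
      exact hx1 (IsPPart.eq hM.1 hpart ((isPPart_one_iff hM.1).2 hd))
    · rw [Finset.mem_coe, Finset.mem_filter] at hg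
      obtain ⟨y, hy, hc, -, hny⟩ := hpp g
      rw [hg.2] at hy hc
      refine ⟨⟨y, ?_⟩, ?_, hy⟩
      · rw [Subgroup.mem_centralizer_singleton_iff]; exact hc.symm.eq
      · rw [Finset.mem_coe, Finset.mem_filter, ← Subgroup.orderOf_coe]
        exact ⟨Finset.mem_univ _, hny⟩
  have h := Finset.sum_filter_add_sum_filter_not Finset.univ (fun g : G => 2 ∣ orderOf g)
    (fun g => colKer B (g ^ k) g)
  rw [hsing, Finset.sum_congr rfl (g := fun g => colKer B g⁻¹ g)
      (fun g hg => by rw [hreg g (Finset.mem_filter.1 hg).2]),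
    sum_colKer_inv hM hB hσ, htot] at h
  set R := ∑ x ∈ (pElements 2 G).attach, r x.1 x.2
  set A := (Finset.univ.filter (fun i => InBlk M B i ∧ σ i = i)).card
  have h' : R + Nat.card G * A = Nat.card G * N := by exact_mod_cast h
  have hA : 1 ≤ A := by
    obtain ⟨i, hi1, hi2⟩ := exists_selfdual hM hB hstab hσ2 hσ
    exact Finset.card_pos.2 ⟨i, Finset.mem_filter.2 ⟨Finset.mem_univ _, hi1, hi2⟩⟩
  have hAN : A ≤ N := Nat.le_of_mul_le_mul_left (h' ▸ Nat.le_add_left _ _) Nat.card_pos
  refine ⟨hA.trans hAN, fun x hx b hb hbs => ?_⟩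
  have hR : 0 < R := lt_of_lt_of_le (hrpos x hx b hb hbs)
    (Finset.single_le_sum (f := fun y : {y // y ∈ pElements 2 G} => r y.1 y.2)
      (fun _ _ => Nat.zero_le _) (Finset.mem_attach _ ⟨x, hx⟩))
  rcases hAN.lt_or_eq with hlt | heq
  · omega
  · rw [heq] at h'
    omega

end Cfsg.Lib.Blocks.SigmaTwist
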