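import Mathlib
import Cfsg.Agent.S0717
import Cfsg.Agent.Blocks.PrincipalColumn
import Cfsg.Agent.Blocks.RealTwo
import Cfsg.Agent.Chars.DefectZero

/-!
# Actions in which every involution fixes exactly one point

The permutation character of such a transitive action has a real constituent of `2`-defect zero.
-/

set_option autoImplicit false
set_option linter.unusedSectionVars false
set_option linter.style.haveILetI false

namespace Cfsg.Lib.Blocks.SigmaTwist

open Cfsg.Lib.Chars Cfsg.Lib.Blocks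
open scoped ComplexConjugate Classical

universe u v

variable {G : Type u} [Group G] [Fintype G] {Ω : Type v} [Fintype Ω] [MulAction G Ω]

/-- A group element fixing two points has odd order. -/
lemma odd_order_of_two_fixed
    (hfix : ∀ w : G, orderOf w = 2 → ∃! a : Ω, w • a = a) {a b : Ω} (hab : a ≠ b) {g : G}
    (ha : g • a = a) (hb : g • b = b) : ¬ 2 ∣ orderOf g := by
  intro h2
  have hpos := orderOf_pos g
  have hd : orderOf g / 2 ∣ orderOf g := Nat.div_dvd_of_dvd h2
  have h0 : orderOf g / 2 ≠ 0 := by omega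
  have ho : orderOf (g ^ (orderOf g / 2)) = 2 := by
    rw [orderOf_pow_of_dvd h0 hd]
    exact Nat.div_div_self h2 hpos.ne'
  have hst : ∀ c : Ω, g • c = c → g ^ (orderOf g / 2) • c = c := fun c hc =>
    (MulAction.stabilizer G c).pow_mem (x := g) hc _
  exact hab ((hfix _ ho).unique (hst a ha) (hst b hb))

/-- Fixed points of two involutions with the same action on a pair. -/
lemma exists_move_fixed
    (hfix : ∀ w : G, orderOf w = 2 → ∃! a : Ω, w • a = a) {a b : Ω} (hab : a ≠ b) {w w' : G}
    (hw : orderOf w = 2) (hw' : orderOf w' = 2) (hwa : w • a = b) (hwa' : w' • a = b) {z z' : Ω}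
    (hz : w • z = z) (hz' : w' • z' = z') : ∃ g : G, g • a = a ∧ g • z = z' := by
  have hww : w * w = 1 := by rw [← sq, ← hw, pow_orderOf_eq_one]
  have hww' : w' * w' = 1 := by rw [← sq, ← hw', pow_orderOf_eq_one]
  have hwb : w • b = a := by rw [← hwa, smul_smul, hww, one_smul]
  have hwb' : w' • b = a := by rw [← hwa', smul_smul, hww', one_smul]
  set y := w * w' with hy
  have hya : y • a = a := by rw [hy, mul_smul, hwa', hwb]
  have hyb : y • b = b := by rw [hy, mul_smul, hwb', hwa]
  obtain ⟨l, hl⟩ : Odd (orderOf y) :=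
    Nat.odd_iff.2 (by have := odd_order_of_two_fixed hfix hab hya hyb; omega)
  have hwyw : ∀ n : ℕ, w * y ^ n = (y ^ n)⁻¹ * w := fun n => by
    have h1 : w * y * w⁻¹ = y⁻¹ := by
      rw [hy, mul_inv_rev, inv_eq_of_mul_eq_one_right hww', inv_eq_of_mul_eq_one_right hww,
        ← mul_assoc, hww, one_mul]
    have h2 : w * y ^ n * w⁻¹ = (y ^ n)⁻¹ := by rw [← conj_pow, h1, inv_pow]
    rw [← h2]; group
  -- `y ^ l` conjugates `w` to `w'`
  have hconj : y ^ l * w * (y ^ l)⁻¹ = w' := by
    calc y ^ l * w * (y ^ l)⁻¹ = y ^ l * (w * (y ^ l)⁻¹) := by group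
      _ = y ^ l * (y ^ l * w) := by
          congr 1
          have := hwyw l
          calc w * (y ^ l)⁻¹ = y ^ l * ((y ^ l)⁻¹ * w) * (y ^ l)⁻¹ := by group
            _ = y ^ l * (w * y ^ l) * (y ^ l)⁻¹ := by rw [this]
            _ = y ^ l * w := by group
      _ = y ^ (2 * l) * w := by rw [← mul_assoc, ← pow_add, two_mul]
      _ = y⁻¹ * w := by
          congr 1
          refine eq_inv_of_mul_eq_one_left ?_
          rw [← pow_succ, ← hl, pow_orderOf_eq_one]
      _ = w' := by
          rw [hy, mul_inv_rev, inv_eq_of_mul_eq_one_right hww', inv_eq_of_mul_eq_one_right hww,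
            mul_assoc, hww, mul_one]
  refine ⟨y ^ l, (MulAction.stabilizer G a).pow_mem (x := y) hya _,
    (hfix w' hw').unique ?_ hz'⟩
  have : w' * y ^ l = y ^ l * w := by rw [← hconj]; group
  rw [smul_smul, this, ← smul_smul, hz]

/-- **Every orbital is self paired.** -/
theorem exists_swap [MulAction.IsPretransitive G Ω]
    (hfix : ∀ w : G, orderOf w = 2 → ∃! a : Ω, w • a = a)
    (hsurj : ∀ a : Ω, ∃ w : G, orderOf w = 2 ∧ w • a = a) {a b : Ω} (hab : a ≠ b) :
    ∃ w : G, orderOf w = 2 ∧ w • a = b ∧ w • b = a := by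
  have hfix' : ∀ w : G, ∃ z : Ω, orderOf w = 2 → w • z = z := fun w => by
    by_cases hw : orderOf w = 2
    · obtain ⟨z, hz, -⟩ := hfix w hw
      exact ⟨z, fun _ => hz⟩
    · exact ⟨a, fun h => absurd h hw⟩
  choose fp hfp using hfix'
  let Q := MulAction.orbitRel.Quotient G (Ω × Ω)
  let cl : Ω × Ω → Q := Quotient.mk''
  have hcl : ∀ (g : G) (c d : Ω), cl (g • c, g • d) = cl (c, d) := fun g c d =>
    Quotient.sound' ⟨g, rfl⟩
  have hcl' : ∀ p q : Ω × Ω, cl p = cl q → ∃ g : G, g • q.1 = p.1 ∧ g • q.2 = p.2 := fun p q h => by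
    obtain ⟨g, hg⟩ := Quotient.exact' h
    exact ⟨g, congrArg Prod.fst hg, congrArg Prod.snd hg⟩
  let Off : Set Q := {q | ∃ c d : Ω, c ≠ d ∧ cl (c, d) = q}
  let Sw : Set Q := {q | ∃ c d : Ω, c ≠ d ∧ cl (c, d) = q ∧ ∃ w : G, orderOf w = 2 ∧ w • c = d}
  have hSO : Sw ⊆ Off := fun q ⟨c, d, h1, h2, _⟩ => ⟨c, d, h1, h2⟩
  have hsel : ∀ q : Q, ∃ r : Q, ∀ (c d : Ω) (w : G), c ≠ d → cl (c, d) = q → orderOf w = 2 →
      w • c = d → cl (c, fp w) = r := by
    intro q
    by_cases h : q ∈ Sw
    · obtain ⟨c0, d0, h0, hq0, w0, hw0, hwc0⟩ := h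
      refine ⟨cl (c0, fp w0), fun c d w hcd hq hw hwc => ?_⟩
      obtain ⟨g, hg1, hg2⟩ := hcl' (c, d) (c0, d0) (hq.trans hq0.symm)
      simp only at hg1 hg2
      have ho : orderOf (g * w0 * g⁻¹) = 2 := by
        rw [show g * w0 * g⁻¹ = (MulAut.conj g).toMonoidHom w0 from rfl,
          orderOf_injective _ (MulAut.conj g).injective, hw0]
      have hgz : (g * w0 * g⁻¹) • (g • fp w0) = g • fp w0 := by
        rw [smul_smul, show g * w0 * g⁻¹ * g = g * w0 by group, mul_smul, hfp w0 hw0]
      have hgc : (g * w0 * g⁻¹) • c = d := by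
        rw [← hg1, smul_smul, show g * w0 * g⁻¹ * g = g * w0 by group, mul_smul, hwc0, hg2]
      obtain ⟨y, hy1, hy2⟩ := exists_move_fixed hfix hcd ho hw hgc hwc hgz (hfp w hw)
      rw [← hcl g c0 (fp w0), hg1, ← hcl y c (g • fp w0), hy1, hy2]
    · exact ⟨q, fun c d w hcd hq hw hwc => absurd ⟨c, d, hcd, hq, w, hw, hwc⟩ h⟩
  choose F hF using hsel
  have hOF : Off ⊆ F '' Sw := by
    rintro q ⟨c, z, hcz, rfl⟩
    obtain ⟨w, hw, hwz⟩ := hsurj z
    have hfpz : fp w = z := (hfix w hw).unique (hfp w hw) hwz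
    have hcd : c ≠ w • c := fun h => hcz ((hfix w hw).unique h.symm hwz)
    exact ⟨cl (c, w • c), ⟨c, _, hcd, rfl, w, hw, rfl⟩, by
      rw [← hF _ c (w • c) w hcd rfl hw rfl, hfpz]⟩
  have hEq : Sw = Off := Set.eq_of_subset_of_ncard_le hSO
    ((Set.ncard_le_ncard hOF).trans (Set.ncard_image_le))
  obtain ⟨c, d, hcd, hq, w, hw, hwc⟩ : cl (a, b) ∈ Sw := hEq ▸ ⟨a, b, hab, rfl⟩
  obtain ⟨g, hg1, hg2⟩ := hcl' (a, b) (c, d) hq.symm
  simp only at hg1 hg2
  have ho : orderOf (g * w * g⁻¹) = 2 := by
    rw [show g * w * g⁻¹ = (MulAut.conj g).toMonoidHom w from rfl,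
      orderOf_injective _ (MulAut.conj g).injective, hw]
  have hab' : (g * w * g⁻¹) • a = b := by
    rw [← hg1, smul_smul, show g * w * g⁻¹ * g = g * w by group, mul_smul, hwc, hg2]
  refine ⟨_, ho, hab', ?_⟩
  rw [← hab', smul_smul, ← sq, ← ho, pow_orderOf_eq_one, one_smul]

/-- A stabiliser invariant function with values in the place sums to a multiple of the `2`-part. -/
lemma sum_invariant_mul {M : Ideal AlgInt} [MulAction.IsPretransitive G Ω] {N : ℕ}
    (hN : ∀ b a : Ω, a ≠ b → 2 ^ N ∣ (MulAction.orbit (MulAction.stabilizer G a) b).ncard)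
    (a : Ω) (F : Ω → ℂ) (hF : ∀ b, F b ∈ place M)
    (hinv : ∀ g ∈ MulAction.stabilizer G a, ∀ b, F (g • b) = F b) :
    ∃ r ∈ place M, ∑ b ∈ Finset.univ.erase a, F b = ((2 ^ N : ℕ) : ℂ) * r := by
  set K := MulAction.stabilizer G a
  set o : Ω → Set Ω := fun b => MulAction.orbit K b with ho
  rw [← Finset.sum_fiberwise_of_maps_to (g := o) (t := (Finset.univ.erase a).image o)
    fun b hb => Finset.mem_image_of_mem o hb]
  have hfib : ∀ s ∈ (Finset.univ.erase a).image o,
      ∃ r ∈ place M, ∑ b ∈ (Finset.univ.erase a).filter (fun b => o b = s), F b =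
        ((2 ^ N : ℕ) : ℂ) * r := by
    intro s hs
    obtain ⟨b0, hb0, rfl⟩ := Finset.mem_image.1 hs
    have hb0a : a ≠ b0 := fun h => (Finset.mem_erase.1 hb0).1 h.symm
    have hset : (((Finset.univ.erase a).filter (fun b => o b = o b0) : Finset Ω) : Set Ω) = o b0 := by
      ext b
      simp only [Finset.coe_filter, Finset.mem_erase, Finset.mem_univ, and_true, Set.mem_ofPred_eq, ho]
      refine ⟨fun h => MulAction.orbit_eq_iff.1 h.2, fun h => ⟨?_, MulAction.orbit_eq_iff.2 h⟩⟩
      rintro rfl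
      obtain ⟨g, hg⟩ := h
      refine hb0a (smul_left_cancel (g : G) ?_).symm
      exact hg.trans (g.2 : (g : G) • b = b).symm
    obtain ⟨m, hm⟩ := hN b0 a hb0a
    refine ⟨(m : ℂ) * F b0, mul_mem (natCast_mem_place _) (hF _), ?_⟩
    rw [Finset.sum_congr rfl (g := fun _ => F b0) fun b hb => ?_, Finset.sum_const, nsmul_eq_mul,
      ← Set.ncard_coe_finset, hset]
    · rw [show (o b0).ncard = _ from hm, Nat.cast_mul, mul_assoc]
    · obtain ⟨g, hg⟩ := MulAction.orbit_eq_iff.1 (Finset.mem_filter.1 hb).2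
      rw [← hg]
      exact hinv _ g.2 b0
  choose r hr1 hr2 using hfib
  refine ⟨∑ s ∈ ((Finset.univ.erase a).image o).attach, r s.1 s.2,
    sum_mem fun s _ => hr1 _ _, ?_⟩
  rw [Finset.mul_sum, ← Finset.sum_attach]
  exact Finset.sum_congr rfl fun s _ => hr2 _ _

/-- The `2`-part of the order divides the non-trivial suborbits. -/
lemma pow_dvd_suborbit [MulAction.IsPretransitive G Ω]
    (hfix : ∀ w : G, orderOf w = 2 → ∃! a : Ω, w • a = a) (hodd : Odd (Fintype.card Ω))
    (b a : Ω) (hab : a ≠ b) :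
    2 ^ (Nat.card G).factorization 2 ∣ (MulAction.orbit (MulAction.stabilizer G a) b).ncard := by
  haveI : Fact (Nat.Prime 2) := ⟨Nat.prime_two⟩
  set K := MulAction.stabilizer G a
  set S := MulAction.stabilizer K b with hS
  have hSodd : ¬ 2 ∣ Nat.card S := fun h => by
    obtain ⟨g, hg⟩ := exists_prime_orderOf_dvd_card' (G := S) 2 h
    rw [← Subgroup.orderOf_coe, ← Subgroup.orderOf_coe] at hg
    exact odd_order_of_two_fixed hfix hab ((g : K).2) (show ((g : K) : G) • b = b from g.2)
      (dvd_of_eq hg.symm)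
  have h1 : S.index = (MulAction.orbit K b).ncard := MulAction.index_stabilizer K b
  have h2 : Nat.card G = Nat.card S * (MulAction.orbit K b).ncard * Fintype.card Ω := by
    rw [← h1, S.card_mul_index, ← Nat.card_eq_fintype_card (α := Ω),
      ← MulAction.index_stabilizer_of_transitive G a, K.card_mul_index]
  have hcop : Nat.Coprime (2 ^ (Nat.card G).factorization 2) (Nat.card S * Fintype.card Ω) :=
    (Nat.prime_two.coprime_pow_of_not_dvd (fun h => by
      rcases Nat.prime_two.dvd_mul.1 h with h | h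
      · exact hSodd h
      · exact (Nat.not_even_iff_odd.2 hodd) (even_iff_two_dvd.2 h))).symm
  refine hcop.dvd_of_dvd_mul_left ?_
  rw [show Nat.card S * Fintype.card Ω * (MulAction.orbit K b).ncard = Nat.card G by rw [h2]; ring]
  exact Nat.ordProj_dvd _ _

variable {M : Ideal AlgInt}

/-- An invariant symmetric idempotent on such an action has integral entries. -/
theorem entries_mem_place [MulAction.IsPretransitive G Ω] (hM : IsPModular 2 M)
    (hfix : ∀ w : G, orderOf w = 2 → ∃! a : Ω, w • a = a)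
    (hsurj : ∀ a : Ω, ∃ w : G, orderOf w = 2 ∧ w • a = a)
    (E : Ω → Ω → ℂ) (hinv : ∀ (g : G) a b, E (g • a) (g • b) = E a b)
    (hsym : ∀ a b, E b a = E a b) (hidem : ∀ a b, ∑ z, E a z * E z b = E a b) :
    ∀ a b, E a b ∈ place M := by
  haveI := charP_res hM
  by_contra hnot
  push Not at hnot
  obtain ⟨a1, b1, h1⟩ := hnot
  obtain ⟨⟨a0, b0⟩, -, hmax⟩ := Finset.exists_max_image (Finset.univ : Finset (Ω × Ω))
    (fun q => (place M).valuation (E q.1 q.2)) ⟨(a1, b1), Finset.mem_univ _⟩
  have hv : 1 < (place M).valuation (E a0 b0) := by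
    refine lt_of_lt_of_le ?_ (hmax (a1, b1) (Finset.mem_univ _))
    rw [← not_le, ValuationSubring.valuation_le_one_iff]
    exact h1
  have hne : E a0 b0 ≠ 0 := fun h => by
    rw [h, map_zero] at hv
    exact absurd hv (not_lt.2 zero_le)
  set s := (E a0 b0)⁻¹ with hs
  have hss : Small M s := small_iff.2 (by rw [hs, map_inv₀]; exact inv_lt_one_of_one_lt₀ hv)
  set d : Ω → Ω → ℂ := fun a b => s * E a b with hd
  have hdp : ∀ a b, d a b ∈ place M := fun a b => by
    rw [← ValuationSubring.valuation_le_one_iff]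
    simp only [hd, hs, map_mul, map_inv₀]
    rw [inv_mul_le_one₀ (zero_lt_one.trans hv)]
    exact hmax (a, b) (Finset.mem_univ _)
  set f : Ω → Ω → Res M := fun a b => res M (d a b) with hf
  have hfi : ∀ (g : G) a b, f (g • a) (g • b) = f a b := fun g a b => by simp only [hf, hd, hinv]
  have hfs : ∀ a b, f b a = f a b := fun a b => by simp only [hf, hd, hsym]
  have hsq : ∀ a b, ∑ z, f a z * f z b = 0 := fun a b => by
    calc _ = res M (∑ z, d a z * d z b) := by
          rw [res_sum _ _ fun z _ => mul_mem (hdp a z) (hdp z b)]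
          exact Finset.sum_congr rfl fun z _ => (res_mul (hdp a z) (hdp z b)).symm
      _ = res M (s * d a b) := by
          congr 1
          rw [Finset.sum_congr rfl fun z _ => show d a z * d z b = s * s * (E a z * E z b) by
            simp only [hd]; ring, ← Finset.mul_sum, hidem]
          simp only [hd]
          ring
      _ = 0 := (res_eq_zero_iff (mul_mem hss.mem_place (hdp a b))).2 (hss.mul_mem (hdp a b))
  have hoff : ∀ a z, a ≠ z → f a z = 0 := fun a z haz => by
    obtain ⟨w, hw, hwz⟩ := hsurj z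
    have hww : ∀ c : Ω, w • w • c = c := fun c => by
      rw [smul_smul, ← sq, ← hw, pow_orderOf_eq_one, one_smul]
    set b := w • a with hb
    have hwb : w • b = a := hww a
    have hfz : f z b = f a z := by
      rw [hfs, ← hfi w b z, hwb, hwz]
    have hrest : ∑ c ∈ Finset.univ.erase z, f a c * f c b = 0 := by
      refine Finset.sum_involution (fun c _ => w • c) (fun c _ => ?_) (fun c hc _ h => ?_)
        (fun c hc => ?_) fun c _ => hww c
      · have e1 : f a (w • c) = f c b := by rw [hfs b c, ← hfi w b c, hwb]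
        have e2 : f (w • c) b = f a c := by rw [hfs b (w • c), ← hfi w b (w • c), hwb, hww]
        rw [e1, e2, mul_comm (f c b)]
        exact CharTwo.add_self_eq_zero _
      · exact (Finset.mem_erase.1 hc).1 ((hfix w hw).unique h hwz)
      · refine Finset.mem_erase.2 ⟨fun h => (Finset.mem_erase.1 hc).1 ?_, Finset.mem_univ _⟩
        rw [← hww c, h, hwz]
    have h0 := hsq a b
    rw [← Finset.add_sum_erase _ _ (Finset.mem_univ z), hrest, add_zero, hfz] at h0
    exact mul_self_eq_zero.1 h0
  have hall : ∀ a b, f a b = 0 := fun a b => by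
    by_cases hab : a = b
    · subst hab
      have h0 := hsq a a
      rw [Finset.sum_eq_single a (fun z _ hz => by rw [hoff a z hz.symm, zero_mul]) (by simp)] at h0
      exact mul_self_eq_zero.1 h0
    · exact hoff a b hab
  have h00 := hall a0 b0
  simp only [hf, hd, hs, inv_mul_cancel₀ hne, res_one] at h00
  exact one_ne_zero h00

set_option maxHeartbeats 800000 in
/-- **A real constituent of defect zero.** -/
theorem exists_real_constituent [MulAction.IsPretransitive G Ω] (hM : IsPModular 2 M)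
    (hfix : ∀ w : G, orderOf w = 2 → ∃! a : Ω, w • a = a)
    (hsurj : ∀ a : Ω, ∃ w : G, orderOf w = 2 ∧ w • a = a) (h2 : 2 ≤ Fintype.card Ω) :
    ∃ χ : IrrCharacter G, conjIrr χ = χ ∧ χ ∉ Cfsg.principalBlock M G := by
  haveI : Fact (Nat.Prime 2) := ⟨Nat.prime_two⟩
  obtain ⟨a0, -⟩ := Fintype.exists_pair_of_one_lt_card h2
  -- the number of points is odd
  have hodd : Odd (Fintype.card Ω) := by
    rw [← Nat.not_even_iff_odd, even_iff_two_dvd]
    intro h
    obtain ⟨w, hw, hwa⟩ := hsurj a0
    have hw2 : (MulAction.toPerm w : Equiv.Perm Ω) ^ 2 ^ 1 = 1 := Equiv.ext fun c => by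
      rw [pow_one, sq]
      show w • w • c = c
      rw [smul_smul, ← sq, ← hw, pow_orderOf_eq_one, one_smul]
    obtain ⟨c, hc, hne⟩ := Equiv.Perm.exists_fixed_point_of_prime' (p := 2) h hw2 (a := a0) hwa
    exact hne ((hfix w hw).unique hc hwa)
  have hswap : ∀ a b : Ω, ∃ g : G, g • a = b ∧ g • b = a := fun a b => by
    by_cases hab : a = b
    · exact ⟨1, by rw [one_smul, hab], by rw [one_smul, hab]⟩
    · obtain ⟨w, -, h1, h2'⟩ := exists_swap hfix hsurj hab
      exact ⟨w, h1, h2'⟩
  have hcon := Cfsg.Agent.S0717.result.1 hswap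
  set π : G → ℂ := fun g => (Nat.card (MulAction.fixedBy Ω g) : ℂ) with hπ
  have hπc : IsClassFunction G π := fun g h => by
    simp only [hπ]
    congr 1
    refine (Nat.card_congr (Equiv.subtypeEquiv (MulAction.toPerm h) fun c => ?_)).symm
    show g • c = c ↔ (h * g * h⁻¹) • h • c = h • c
    rw [smul_smul, show h * g * h⁻¹ * h = h * g by group, mul_smul, smul_left_cancel_iff]
  have hπ1 : π 1 = (Fintype.card Ω : ℂ) := by
    simp [hπ, MulAction.fixedBy, Nat.card_eq_fintype_card]
  obtain ⟨χ, hχne, hχin⟩ : ∃ χ : IrrCharacter G, χ ≠ principal G ∧ classInner π (χ : G → ℂ) ≠ 0 := by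
    by_contra h
    push Not at h
    have he := classFunction_expand_apply hπc (1 : G)
    rw [Finset.sum_eq_single (principal G) (fun χ _ hχ => by rw [h χ hχ, zero_mul]) (by simp),
      show ((principal G : IrrCharacter G) : G → ℂ) 1 = 1 from rfl, mul_one, hπ1] at he
    by_cases h0 : classInner π ((principal G : IrrCharacter G) : G → ℂ) = 0
    · rw [h0, Nat.cast_eq_zero] at he; omega
    · rw [(hcon _ (principal G).2 h0).1, Nat.cast_eq_one] at he; omega
  obtain ⟨hmult, hrealv⟩ := hcon _ χ.2 hχin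
  set c : G → ℂ := blockCoeff ({χ} : Set (IrrCharacter G)) with hc
  have hcv : ∀ g, c g = (Nat.card G : ℂ)⁻¹ * ((χ : G → ℂ) 1 * conj ((χ : G → ℂ) g)) := fun g => by
    rw [hc, blockCoeff_eq_sum, show Finset.univ.filter (· ∈ ({χ} : Set (IrrCharacter G))) = {χ} by
      ext; simp, Finset.sum_singleton]
  have hconv : ∀ k, ∑ g, c g * c (g⁻¹ * k) = c k := fun k => by
    have h := congrArg (fun e => fn e k) (blockElem_mul_self ({χ} : Set (IrrCharacter G)))
    simp only [fn_mul, fn_blockElem] at h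
    exact h
  set E : Ω → Ω → ℂ := fun a b => ∑ g, if g • b = a then c g else 0 with hE
  have hEinv : ∀ (x : G) a b, E (x • a) (x • b) = E a b := fun x a b => by
    refine Fintype.sum_equiv (MulAut.conj x⁻¹).toEquiv _ _ fun g => ?_
    show (if g • x • b = x • a then c g else 0) =
      if (x⁻¹ * g * x⁻¹⁻¹) • b = a then c (x⁻¹ * g * x⁻¹⁻¹) else 0
    have hcg : c (x⁻¹ * g * x⁻¹⁻¹) = c g := blockCoeff_conj _ g x⁻¹
    rw [hcg, inv_inv]
    refine if_congr ?_ rfl rfl
    rw [mul_smul, mul_smul, inv_smul_eq_iff]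
  have hEsym : ∀ a b, E b a = E a b := fun a b => by
    obtain ⟨g, hga, hgb⟩ := hswap a b
    rw [← hEinv g a b, hga, hgb]
  have hEidem : ∀ a b, ∑ z, E a z * E z b = E a b := fun a b => by
    calc ∑ z, E a z * E z b
        = ∑ z, ∑ g, ∑ h, if g • z = a ∧ h • b = z then c g * c h else 0 := by
          refine Finset.sum_congr rfl fun z _ => ?_
          rw [Finset.sum_mul_sum]
          refine Finset.sum_congr rfl fun g _ => Finset.sum_congr rfl fun h _ => ?_
          by_cases h1 : g • z = a <;> by_cases h2 : h • b = z <;> simp [h1, h2]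
      _ = ∑ g, ∑ h, if (g * h) • b = a then c g * c h else 0 := by
          rw [Finset.sum_comm]
          refine Finset.sum_congr rfl fun g _ => ?_
          rw [Finset.sum_comm]
          refine Finset.sum_congr rfl fun h _ => ?_
          rw [Finset.sum_eq_single (h • b) (fun z _ hz => if_neg fun h' => hz h'.2.symm) (by simp)]
          simp [mul_smul]
      _ = ∑ g, ∑ k, if k • b = a then c g * c (g⁻¹ * k) else 0 :=
          Finset.sum_congr rfl fun g _ =>
            Fintype.sum_equiv (Equiv.mulLeft g) _ _ fun h => by simp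
      _ = E a b := by
          rw [Finset.sum_comm]
          refine Finset.sum_congr rfl fun k _ => ?_
          split_ifs
          · exact hconv k
          · exact Finset.sum_const_zero
  have hint := entries_mem_place hM hfix hsurj E hEinv hEsym hEidem
  -- the row sum vanishes
  have hrow : ∑ b, E a0 b = 0 := by
    have hcol : ∀ g : G, (∑ b, if g • b = a0 then c g else 0) = c g := fun g => by
      rw [Finset.sum_eq_single (g⁻¹ • a0) (fun b _ hb => if_neg fun h => hb (by
        rw [← h, inv_smul_smul])) (by simp), if_pos (smul_inv_smul g a0)]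
    rw [Finset.sum_comm, Finset.sum_congr rfl fun g _ => hcol g]
    have h := classInner_irrCharacter (principal G) χ
    rw [if_neg (Ne.symm hχne), classInner_def] at h
    simp only [hcv, ← Finset.mul_sum]
    rw [show (Nat.card G : ℂ)⁻¹ * ((χ : G → ℂ) 1 * ∑ g, conj ((χ : G → ℂ) g)) =
      (χ : G → ℂ) 1 * ((Nat.card G : ℂ)⁻¹ *
        ∑ g, ((principal G : IrrCharacter G) : G → ℂ) g * conj ((χ : G → ℂ) g)) by
      simp [show ∀ g, ((principal G : IrrCharacter G) : G → ℂ) g = 1 from fun _ => rfl]; ring, h,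
      mul_zero]
  -- the trace is the degree
  have htr : (Fintype.card Ω : ℂ) * E a0 a0 = (deg (χ : G → ℂ) : ℂ) := by
    have h1 : ∑ a, E a a = (Fintype.card Ω : ℂ) * E a0 a0 := by
      rw [Finset.sum_congr rfl (g := fun _ => E a0 a0) fun a _ => ?_, Finset.sum_const,
        Finset.card_univ, nsmul_eq_mul]
      obtain ⟨g, rfl⟩ := MulAction.exists_smul_eq G a0 a
      exact hEinv g a0 a0
    rw [← h1, Finset.sum_comm, ← irr_apply_one_eq_deg]
    have h2 : ∀ g, (∑ a, if g • a = a then c g else 0) =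
        (χ : G → ℂ) 1 * ((Nat.card G : ℂ)⁻¹ * (π g * conj ((χ : G → ℂ) g))) := fun g => by
      rw [← Finset.sum_filter, Finset.sum_const, nsmul_eq_mul, hcv,
        show π g = ((Finset.univ.filter (fun a : Ω => g • a = a)).card : ℂ) by
          simp only [hπ]; rw [Nat.card_coe_set_eq, ← Set.ncard_coe_finset]; congr 2; ext; simp [MulAction.fixedBy]]
      ring
    rw [Finset.sum_congr rfl fun g _ => h2 g, ← Finset.mul_sum, ← Finset.mul_sum, ← classInner_def,
      hmult, mul_one]
  set N := (Nat.card G).factorization 2 with hN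
  obtain ⟨r, hr, hsum⟩ := sum_invariant_mul (fun b a hab => pow_dvd_suborbit hfix hodd b a hab)
    a0 (E a0) (hint a0) fun g hg b => by
      conv_lhs => rw [← show g • a0 = a0 from hg]
      exact hEinv g a0 b
  have hdeg : 2 ^ N ∣ deg (χ : G → ℂ) := by
    rw [Nat.prime_two.pow_dvd_iff_le_factorization (deg_irr_pos χ).ne']
    have hd : (deg (χ : G → ℂ) : ℂ) = ((2 ^ N : ℕ) : ℂ) * (-(Fintype.card Ω : ℂ) * r) := by
      rw [← htr]
      have := hrow
      rw [← Finset.add_sum_erase _ _ (Finset.mem_univ a0), hsum] at this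
      linear_combination (Fintype.card Ω : ℂ) * this
    have hv := congrArg (place M).valuation hd
    rw [valuation_natCast hM (deg_irr_pos χ).ne', map_mul, Nat.cast_pow, map_pow] at hv
    rw [← valuation_prime_pow_le_iff hM, hv]
    refine mul_le_of_le_one_right zero_le ((ValuationSubring.valuation_le_one_iff _ _).2 ?_)
    exact mul_mem (neg_mem (natCast_mem_place _)) hr
  refine ⟨χ, Subtype.ext (funext hrealv), ?_⟩
  rw [mem_principal_iff_sum hM, not_not]
  have hn' : ¬ 2 ^ (N + 1) ∣ Nat.card G := Nat.pow_succ_factorization_not_dvd Nat.card_pos.ne' Nat.prime_two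
  rw [Finset.sum_congr rfl (g := fun g => (χ : G → ℂ) g) fun g _ => ?_]
  · have h := classInner_irrCharacter χ (principal G)
    rw [if_neg hχne, classInner_def] at h
    simpa [show ∀ g, ((principal G : IrrCharacter G) : G → ℂ) g = 1 from fun _ => rfl,
      Nat.card_pos.ne'] using h
  · split_ifs with hg
    · exact (eq_zero_of_defect_zero χ.2 Nat.prime_two (Nat.ordProj_dvd _ _) hn' hdeg hg).symm
    · rfl

end Cfsg.Lib.Blocks.SigmaTwist
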