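import Mathlib
import Cfsg.Agent.Blocks.SigmaTwist.FixedPoint
import Cfsg.Agent.Blocks.Third
import Cfsg.Agent.Blocks.Second
import Cfsg.Agent.Blocks.Sub

/-!
# Real non-principal blocks

A group with commutative `2`-subgroups and a real element of odd order other than `1` has a
non-principal `2`-block closed under complex conjugation.
-/

set_option autoImplicit false
set_option linter.unusedSectionVars false
set_option linter.style.haveILetI false

namespace Cfsg.Lib.Blocks.SigmaTwist

open Cfsg.Lib.Chars Cfsg.Lib.Blocks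
open scoped ComplexConjugate Classical

universe u

/-- All `2`-subgroups are commutative. -/
def TwoComm (G : Type u) [Group G] : Prop :=
  ∀ Q : Subgroup G, IsPGroup 2 Q → ∀ a ∈ Q, ∀ b ∈ Q, a * b = b * a

variable {G : Type u} [Group G] [Fintype G]

lemma TwoComm.subgroup (h : TwoComm G) (H : Subgroup G) : TwoComm H := fun Q hQ a ha b hb =>
  Subtype.ext (h (Q.map H.subtype) (hQ.map _) _ ⟨a, ha, rfl⟩ _ ⟨b, hb, rfl⟩)

lemma TwoComm.quotient (h : TwoComm G) (N : Subgroup G) [N.Normal] (hN : IsPGroup 2 N) :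
    TwoComm (G ⧸ N) := by
  intro Q hQ a ha b hb
  have hP : IsPGroup 2 (Q.comap (QuotientGroup.mk' N)) :=
    hQ.comap_of_ker_isPGroup _ (by rw [QuotientGroup.ker_mk']; exact hN)
  obtain ⟨a, rfl⟩ := QuotientGroup.mk'_surjective N a
  obtain ⟨b, rfl⟩ := QuotientGroup.mk'_surjective N b
  rw [← map_mul, ← map_mul, h _ hP a ha b hb]

/-- Inversion of an element and an involution generate a `2`-group with a `2`-element. -/
lemma isPGroup_sup_of_inverted {t s : G} (ht : t * t = 1) (hs : ∃ j, orderOf s = 2 ^ j)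
    (hts : t * s * t⁻¹ = s⁻¹) :
    IsPGroup 2 ↥(Subgroup.zpowers t ⊔ Subgroup.zpowers s) := by
  haveI : Fact (Nat.Prime 2) := ⟨Nat.prime_two⟩
  obtain ⟨j, hj⟩ := hs
  have hp : IsPGroup 2 (Subgroup.zpowers s) := IsPGroup.of_card ((Nat.card_zpowers s).trans hj)
  have htp : IsPGroup 2 (Subgroup.zpowers t) := by
    obtain ⟨i, -, hi⟩ := (Nat.dvd_prime_pow Nat.prime_two).1
      (show orderOf t ∣ 2 ^ 1 from orderOf_dvd_of_pow_eq_one (by rw [pow_one, sq, ht]))
    exact IsPGroup.of_card ((Nat.card_zpowers t).trans hi)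
  have hnorm : Subgroup.zpowers t ≤ Subgroup.normalizer (Subgroup.zpowers s : Set G) := by
    rw [Subgroup.zpowers_le, Subgroup.mem_normalizer_iff]
    intro w
    constructor
    · rintro ⟨i, rfl⟩
      refine ⟨-i, ?_⟩
      show s ^ (-i) = t * s ^ i * t⁻¹
      rw [← conj_zpow, hts, inv_zpow, zpow_neg]
    · rintro ⟨i, hi⟩
      refine ⟨-i, ?_⟩
      simp only at hi ⊢
      calc s ^ (-i) = t⁻¹ * (t * s ^ (-i) * t⁻¹) * t := by group
        _ = t⁻¹ * s ^ i * t := by rw [← conj_zpow, hts, inv_zpow, zpow_neg, inv_inv]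
        _ = w := by rw [hi]; group
  exact IsPGroup.to_sup_of_normal_right' htp hp hnorm

/-- An element of order not a power of `2` has a non-trivial power of odd order. -/
lemma exists_odd_power (s : G) (hs : ¬ ∃ j, orderOf s = 2 ^ j) :
    ∃ n : ℕ, s ^ n ≠ 1 ∧ Odd (orderOf (s ^ n)) := by
  obtain ⟨e, m, hm, hem⟩ := Nat.exists_eq_pow_mul_and_not_dvd (orderOf_pos s).ne' 2 (by norm_num)
  have hx : orderOf (s ^ 2 ^ e) = m := by
    rw [orderOf_pow_of_dvd (by positivity) ⟨m, hem⟩, hem, Nat.mul_div_cancel_left _ (by positivity)]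
  refine ⟨2 ^ e, fun h => hs ⟨e, ?_⟩, ?_⟩
  · rw [h, orderOf_one] at hx
    rw [hem, ← hx, mul_one]
  · rw [hx, Nat.odd_iff]; omega

/-- Elements inverted by an involution, when they have no odd part. -/
lemma inverted_mul {v w : G} (hv : v * v = 1) (hw : w * w = 1) :
    v * (v * w) * v⁻¹ = (v * w)⁻¹ := by
  rw [mul_inv_rev, inv_eq_of_mul_eq_one_right hw, inv_eq_of_mul_eq_one_right hv, ← mul_assoc, hv,
    one_mul]

variable {M : Ideal AlgInt}

/-- Central characters of inflations. -/
lemma sameBlock_inflate (hM : IsPModular 2 M) (N : Subgroup G) [N.Normal] [Fintype (G ⧸ N)]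
    {φ ψ : IrrCharacter (G ⧸ N)} (h : SameBlock M (φ : G ⧸ N → ℂ) ψ) :
    SameBlock M (inflate N φ : G → ℂ) (inflate N ψ) := by
  refine (sameBlock_iff_res hM _ _).2 fun g => ?_
  obtain ⟨k, hk⟩ : (Subgroup.centralizer ({(g : G ⧸ N)} : Set (G ⧸ N))).index ∣
      (Subgroup.centralizer ({g} : Set G)).index := by
    refine dvd_trans (Subgroup.index_dvd_of_le ?_)
      (Subgroup.index_map_dvd _ (QuotientGroup.mk'_surjective N))
    rintro _ ⟨z, hz, rfl⟩
    rw [SetLike.mem_coe, Subgroup.mem_centralizer_singleton_iff] at hz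
    rw [Subgroup.mem_centralizer_singleton_iff]
    show (z : G ⧸ N) * (g : G ⧸ N) = (g : G ⧸ N) * (z : G ⧸ N)
    rw [← QuotientGroup.mk_mul, hz, QuotientGroup.mk_mul]
  have hcc : ∀ φ' : IrrCharacter (G ⧸ N), centralChar (inflate N φ' : G → ℂ) g =
      (k : ℂ) * centralChar (φ' : G ⧸ N → ℂ) (g : G ⧸ N) := fun φ' => by
    simp only [centralChar, inflate_val, hk, Nat.cast_mul, QuotientGroup.mk_one]
    ring
  rw [hcc, hcc, res_mul (natCast_mem_place _) (centralChar_mem_place hM _ _),
    res_mul (natCast_mem_place _) (centralChar_mem_place hM _ _),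
    (sameBlock_iff_res hM φ ψ).1 h (g : G ⧸ N)]

/-- Modulo a central involution the sums over elements of odd order agree. -/
lemma inflate_not_mem_principal (hM : IsPModular 2 M) {z : G} (hz : orderOf z = 2)
    (hzc : ∀ g : G, Commute z g) [(Subgroup.zpowers z).Normal] [Fintype (G ⧸ Subgroup.zpowers z)]
    {φ : IrrCharacter (G ⧸ Subgroup.zpowers z)}
    (hφ : φ ∉ Cfsg.principalBlock M (G ⧸ Subgroup.zpowers z)) :
    inflate (Subgroup.zpowers z) φ ∉ Cfsg.principalBlock M G := by
  haveI : Fact (Nat.Prime 2) := ⟨Nat.prime_two⟩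
  rw [mem_principal_iff_sum hM, not_not] at hφ ⊢
  have hmem : ∀ n : G, n ∈ Subgroup.zpowers z → n = 1 ∨ n = z := fun n hn => by
    obtain ⟨i, hi, rfl⟩ : ∃ i < orderOf z, z ^ i = n := by
      have := (isOfFinOrder_of_finite z).mem_zpowers_iff_mem_range_orderOf.1 hn
      simpa [Finset.mem_image, Finset.mem_range] using this
    rw [hz] at hi
    interval_cases i
    · exact Or.inl (pow_zero z)
    · exact Or.inr (pow_one z)
  refine Eq.trans ?_ hφ
  simp only [ite_not, inflate_val]
  rw [Finset.sum_ite, Finset.sum_const_zero, zero_add, Finset.sum_ite, Finset.sum_const_zero, zero_add]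
  refine Finset.sum_nbij (fun g : G => (g : G ⧸ Subgroup.zpowers z)) (fun g hg => ?_)
    (fun g hg g' hg' h => ?_) (fun q hq => ?_) fun g _ => rfl
  · simp only [Finset.mem_filter, Finset.mem_univ, true_and] at hg ⊢
    exact fun h => hg (h.trans (orderOf_map_dvd (QuotientGroup.mk' (Subgroup.zpowers z)) g))
  · simp only [Finset.coe_filter, Finset.mem_univ, true_and, Set.mem_ofPred_eq] at hg hg'
    rcases hmem _ (QuotientGroup.eq.1 h) with h1 | h1
    · exact inv_mul_eq_one.1 h1
    · exfalso
      obtain rfl : g' = g * z := by rw [← h1, mul_inv_cancel_left]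
      refine hg' ?_
      rw [(hzc g).symm.orderOf_mul_eq_mul_orderOf_of_coprime (by
        rw [hz]; exact (Nat.prime_two.coprime_iff_not_dvd.2 hg).symm), hz]
      exact dvd_mul_left 2 _
  · simp only [Finset.coe_filter, Finset.mem_univ, true_and, Set.mem_ofPred_eq] at hq
    obtain ⟨g, rfl⟩ := QuotientGroup.mk_surjective q
    set m := orderOf (g : G ⧸ Subgroup.zpowers z) with hm
    have hgm : g ^ m ∈ Subgroup.zpowers z := by
      rw [← QuotientGroup.eq_one_iff, QuotientGroup.mk_pow, hm, pow_orderOf_eq_one]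
    have hg2 : (g ^ m) ^ 2 = 1 := by
      rcases hmem _ hgm with h1 | h1
      · rw [h1, one_pow]
      · rw [h1, ← hz, pow_orderOf_eq_one]
    refine ⟨g ^ (m + 1), ?_, ?_⟩
    · simp only [Finset.coe_filter, Finset.mem_univ, true_and, Set.mem_ofPred_eq]
      have hodd : ¬ 2 ∣ m := hq
      intro h
      obtain ⟨l, hl⟩ : 2 ∣ m + 1 := by omega
      have h1 : (g ^ (m + 1)) ^ m = 1 := by
        rw [← pow_mul, hl, show 2 * l * m = m * 2 * l by ring, pow_mul, pow_mul, hg2, one_pow]
      exact hodd (h.trans (orderOf_dvd_of_pow_eq_one h1))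
    · show ((g ^ (m + 1) : G) : G ⧸ Subgroup.zpowers z) = g
      rw [QuotientGroup.mk_pow, pow_succ, hm, pow_orderOf_eq_one, one_mul]

/-- The base case: involutions whose centralisers have no real elements of odd order. -/
theorem exists_real_block_base (hM : IsPModular 2 M) (hab : TwoComm G)
    (hno : ∀ u : G, orderOf u = 2 → ∀ y c : G, Commute u y → Commute u c → Odd (orderOf y) →
      c * y * c⁻¹ = y⁻¹ → y = 1)
    {x : G} (hx : x ≠ 1) (hxodd : Odd (orderOf x)) {c : G} (hc : c * x * c⁻¹ = x⁻¹) :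
    ∃ χ : IrrCharacter G, χ ∉ Cfsg.principalBlock M G ∧
      SameBlock M (χ : G → ℂ) (conjIrr χ) := by
  haveI : Fact (Nat.Prime 2) := ⟨Nat.prime_two⟩
  have hsq : ∀ v : G, orderOf v = 2 → v * v = 1 := fun v hv => by rw [← sq, ← hv, pow_orderOf_eq_one]
  -- commuting is transitive on involutions
  have htrans : ∀ v u w : G, orderOf v = 2 → orderOf u = 2 → orderOf w = 2 → Commute v u →
      Commute u w → Commute v w := by
    intro v u w hv hu hw h1 h2
    have hinv := inverted_mul (hsq v hv) (hsq w hw)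
    by_cases hp : ∃ j, orderOf (v * w) = 2 ^ j
    · have hQ := isPGroup_sup_of_inverted (hsq v hv) hp hinv
      refine hab _ hQ v (Subgroup.mem_sup_left (Subgroup.mem_zpowers v)) w ?_
      have := Subgroup.mul_mem_sup (S := Subgroup.zpowers v) (T := Subgroup.zpowers (v * w))
        (Subgroup.mem_zpowers v) (Subgroup.mem_zpowers (v * w))
      rwa [← mul_assoc, hsq v hv, one_mul] at this
    · obtain ⟨n, hn1, hn2⟩ := exists_odd_power _ hp
      exact absurd (hno u hu _ v ((h1.symm.mul_right h2).pow_right n) h1.symm hn2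
        (by rw [← conj_pow, hinv, inv_pow])) hn1
  -- an involution inverting `x`
  obtain ⟨t, ht, htx⟩ : ∃ t : G, orderOf t = 2 ∧ t * x * t⁻¹ = x⁻¹ := by
    obtain ⟨e, m, hm, hem⟩ := Nat.exists_eq_pow_mul_and_not_dvd (orderOf_pos c).ne' 2 (by norm_num)
    set d := c ^ m with hd
    have hd2 : orderOf d = 2 ^ e := by
      rw [hd, orderOf_pow_of_dvd (by omega) ⟨2 ^ e, by rw [hem, mul_comm]⟩, hem,
        Nat.mul_div_cancel _ (by omega)]
    have hcn : ∀ n : ℕ, (Even n → c ^ n * x * (c ^ n)⁻¹ = x) ∧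
        (Odd n → c ^ n * x * (c ^ n)⁻¹ = x⁻¹) := fun n => by
      induction n with
      | zero => exact ⟨fun _ => by simp, fun h => by simp at h⟩
      | succ n ih =>
        have hrec : c ^ (n + 1) * x * (c ^ (n + 1))⁻¹ = c * (c ^ n * x * (c ^ n)⁻¹) * c⁻¹ := by
          rw [pow_succ']; group
        refine ⟨fun h => ?_, fun h => ?_⟩
        · rw [hrec, ih.2 (by rw [Nat.even_add_one] at h; exact Nat.not_even_iff_odd.1 h), ← conj_inv,
            hc, inv_inv]
        · rw [hrec, ih.1 (by rw [Nat.odd_add_one] at h; exact Nat.not_odd_iff_even.1 h), hc]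
    have hdx : d * x * d⁻¹ = x⁻¹ := (hcn m).2 (Nat.odd_iff.2 (by omega))
    have hxx : x ≠ x⁻¹ := fun h => hx (by
      have h2 : x ^ 2 = 1 := by rw [sq]; nth_rewrite 1 [h]; exact inv_mul_cancel x
      obtain ⟨l, hl⟩ := hxodd
      have := pow_orderOf_eq_one x
      rw [hl, pow_succ, pow_mul, h2, one_pow, one_mul] at this
      exact this)
    rcases Nat.lt_or_ge e 2 with he | he
    · interval_cases e
      · rw [pow_zero, orderOf_eq_one_iff] at hd2
        rw [hd2, one_mul, inv_one, mul_one] at hdx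
        exact absurd hdx hxx
      · exact ⟨d, by rw [hd2, pow_one], hdx⟩
    · exfalso
      obtain ⟨l, hl⟩ : Even (2 ^ (e - 1)) := Nat.even_pow.2 ⟨even_two, by omega⟩
      have hu : orderOf (d ^ 2 ^ (e - 1)) = 2 := by
        have h2 : 2 ^ e = 2 ^ (e - 1) * 2 := by rw [← pow_succ]; congr 1; omega
        rw [orderOf_pow_of_dvd (by positivity) (hd2 ▸ ⟨2, h2⟩), hd2, h2,
          Nat.mul_div_cancel_left _ (by positivity)]
      refine hx (hno _ hu x d ?_ (Commute.pow_self d _) hxodd hdx)
      have hd2x : Commute (d * d) x := by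
        show d * d * x = x * (d * d)
        calc d * d * x = d * (d * x * d⁻¹) * d := by group
          _ = d * x⁻¹ * d := by rw [hdx]
          _ = (d * x * d⁻¹)⁻¹ * (d * d) := by group
          _ = x * (d * d) := by rw [hdx, inv_inv]
      rw [hl, pow_add, ← (Commute.refl d).mul_pow]
      exact hd2x.pow_left l
  -- the classes of commuting involutions
  let s : Setoid {v : G // orderOf v = 2} :=
    { r := fun v w => Commute v.1 w.1
      iseqv := ⟨fun v => Commute.refl v.1, fun h => h.symm,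
        fun {a b c} h h' => htrans a.1 b.1 c.1 a.2 b.2 c.2 h h'⟩ }
  let Ω := Quotient s
  have hord : ∀ (g : G) (v : {v : G // orderOf v = 2}), orderOf (g * v.1 * g⁻¹) = 2 := fun g v => by
    rw [show g * v.1 * g⁻¹ = (MulAut.conj g).toMonoidHom v.1 from rfl,
      orderOf_injective _ (MulAut.conj g).injective, v.2]
  let cj : G → Ω → Ω := fun g => Quotient.map (fun v => ⟨g * v.1 * g⁻¹, hord g v⟩)
    fun v w h => Commute.map (h : Commute v.1 w.1) (MulAut.conj g).toMonoidHom
  letI : MulAction G Ω :=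
    { smul := cj
      one_smul := fun q => by
        induction q using Quotient.inductionOn with
        | _ v =>
          refine congrArg (Quotient.mk s) (Subtype.ext ?_)
          simp
      mul_smul := fun g h q => by
        induction q using Quotient.inductionOn with
        | _ v =>
          refine congrArg (Quotient.mk s) (Subtype.ext ?_)
          show g * h * v.1 * (g * h)⁻¹ = g * (h * v.1 * h⁻¹) * g⁻¹
          group }
  haveI : Fintype Ω := Fintype.ofFinite _
  have hsmul : ∀ (g : G) (v : {v : G // orderOf v = 2}),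
      g • (Quotient.mk s v : Ω) = Quotient.mk s ⟨g * v.1 * g⁻¹, hord g v⟩ := fun g v => rfl
  have hiff : ∀ v w : {v : G // orderOf v = 2},
      (Quotient.mk s v : Ω) = Quotient.mk s w ↔ Commute v.1 w.1 := fun v w =>
    ⟨fun h => Quotient.exact h, fun h => Quotient.sound h⟩
  -- an involution fixes its own class only
  have hfix : ∀ w : G, orderOf w = 2 → ∃! a : Ω, w • a = a := by
    intro w hw
    refine ⟨Quotient.mk s ⟨w, hw⟩, ?_, fun q => ?_⟩
    · show w • (Quotient.mk s ⟨w, hw⟩ : Ω) = _
      rw [hsmul]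
      exact congrArg (Quotient.mk s) (Subtype.ext (by group))
    induction q using Quotient.inductionOn with
    | _ v =>
    intro hv
    rw [hsmul, hiff] at hv
    obtain ⟨v, hv2⟩ := v
    simp only at hv
    rw [hiff]
    show Commute v w
    -- the involutions commuting with `v`, with `1`
    let E := {g : G // g * g = 1 ∧ Commute g v}
    have hww := hsq w hw
    have hwi : w⁻¹ = w := inv_eq_of_mul_eq_one_right hww
    have hinvE : ∀ g : E, (w * g.1 * w) * (w * g.1 * w) = 1 ∧ Commute (w * g.1 * w) v := by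
      rintro ⟨g, hg, hgv⟩
      have h1 : (w * g * w) * (w * g * w) = 1 := by
        calc (w * g * w) * (w * g * w) = w * (g * (w * w) * g) * w := by group
          _ = 1 := by rw [hww, mul_one, hg, mul_one, hww]
      refine ⟨h1, ?_⟩
      show Commute (w * g * w) v
      by_cases hg1 : g = 1
      · rw [hg1, mul_one, hww]; exact Commute.one_left v
      · have hgo : orderOf g = 2 := orderOf_eq_prime (by rw [sq, hg]) hg1
        have ho := hord w ⟨g, hgo⟩
        rw [show w * g * w = w * g * w⁻¹ by rw [hwi]]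
        exact htrans _ _ _ ho (hord w ⟨v, hv2⟩) hv2
          (Commute.map hgv (MulAut.conj w).toMonoidHom) hv
    have heven : 2 ∣ Fintype.card E := by
      by_contra hodd
      have hvE : ∀ g : E, (v * g.1) * (v * g.1) = 1 ∧ Commute (v * g.1) v := fun g => by
        refine ⟨?_, (Commute.refl v).mul_left g.2.2⟩
        rw [show v * g.1 * (v * g.1) = v * (g.1 * v) * g.1 by group, g.2.2.eq,
          show v * (v * g.1) * g.1 = v * v * (g.1 * g.1) by group, hsq v hv2, g.2.1, one_mul]
      let θ : Equiv.Perm E := Function.Involutive.toPerm (fun g => ⟨v * g.1, hvE g⟩) fun g =>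
        Subtype.ext (by show v * (v * g.1) = g.1; rw [← mul_assoc, hsq v hv2, one_mul])
      obtain ⟨g, hg⟩ := Equiv.Perm.exists_fixed_point_of_prime (p := 2) (n := 1) (σ := θ) hodd
        (Equiv.ext fun g => Subtype.ext (by
          show v * (v * g.1) = g.1
          rw [← mul_assoc, hsq v hv2, one_mul]))
      have hgg : v * g.1 = g.1 := congrArg Subtype.val hg
      have hv1 : v = 1 := mul_eq_right.1 hgg
      rw [hv1, orderOf_one] at hv2
      omega
    let θ : Equiv.Perm E := Function.Involutive.toPerm (fun g => ⟨w * g.1 * w, hinvE g⟩) fun g =>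
      Subtype.ext (by
        show w * (w * g.1 * w) * w = g.1
        calc w * (w * g.1 * w) * w = (w * w) * g.1 * (w * w) := by group
          _ = g.1 := by rw [hww, one_mul, mul_one])
    obtain ⟨⟨g, hg, hgv⟩, hgfix, hgne⟩ := Equiv.Perm.exists_fixed_point_of_prime' (p := 2) (n := 1)
      (σ := θ) heven (Equiv.ext fun g => Subtype.ext (by
        show w * (w * g.1 * w) * w = g.1
        calc w * (w * g.1 * w) * w = (w * w) * g.1 * (w * w) := by group
          _ = g.1 := by rw [hww, one_mul, mul_one]))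
      (a := ⟨1, by rw [mul_one], Commute.one_left v⟩) (Subtype.ext (by
        show w * 1 * w = 1; rw [mul_one, hww]))
    have hgo : orderOf g = 2 := orderOf_eq_prime (by rw [sq, hg]) fun h => hgne (Subtype.ext h)
    have hgw : Commute g w := by
      have h1 : w * g * w = g := congrArg Subtype.val hgfix
      show g * w = w * g
      calc g * w = (w * g * w) * w := by rw [h1]
        _ = w * g * (w * w) := by group
        _ = w * g := by rw [hww, mul_one]
    exact htrans _ _ _ hv2 hgo hw hgv.symm hgw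
  have hsurj : ∀ a : Ω, ∃ w : G, orderOf w = 2 ∧ w • a = a := by
    intro a
    induction a using Quotient.inductionOn with
    | _ v =>
    refine ⟨v.1, v.2, ?_⟩
    rw [hsmul]
    exact congrArg (Quotient.mk s) (Subtype.ext (by group))
  haveI : MulAction.IsPretransitive G Ω := ⟨fun a b => by
    induction a using Quotient.inductionOn with
    | _ v =>
    induction b using Quotient.inductionOn with
    | _ w =>
    obtain ⟨v, hv⟩ := v
    obtain ⟨w, hw⟩ := w
    by_cases hcm : Commute v w
    · exact ⟨1, by rw [one_smul, hiff]; exact hcm⟩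
    set y := v * w with hy
    have hinv := inverted_mul (hsq v hv) (hsq w hw)
    rw [← hy] at hinv
    have hodd : ¬ 2 ∣ orderOf y := by
      intro h2
      have hpos := orderOf_pos y
      have h0 : orderOf y / 2 ≠ 0 := by omega
      have hz : orderOf (y ^ (orderOf y / 2)) = 2 := by
        rw [orderOf_pow_of_dvd h0 (Nat.div_dvd_of_dvd h2)]
        exact Nat.div_div_self h2 hpos.ne'
      set z := y ^ (orderOf y / 2)
      have hzi : z⁻¹ = z := inv_eq_of_mul_eq_one_right (hsq z hz)
      have hvz : Commute v z := by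
        have h1 : v * z * v⁻¹ = z := by
          conv_rhs => rw [← hzi]
          simp only [z]
          rw [← conj_pow, hinv, inv_pow]
        exact mul_inv_eq_iff_eq_mul.1 h1
      have hwz : Commute w z := by
        rw [show w = v * y by rw [hy, ← mul_assoc, hsq v hv, one_mul]]
        exact hvz.mul_left (Commute.self_pow y _)
      exact hcm (htrans _ _ _ hv hz hw hvz hwz.symm)
    obtain ⟨l, hl⟩ := Nat.odd_iff.2 (Nat.two_dvd_ne_zero.1 hodd)
    refine ⟨y ^ l, ?_⟩
    rw [hsmul]
    refine congrArg (Quotient.mk s) (Subtype.ext ?_)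
    show y ^ l * v * (y ^ l)⁻¹ = w
    have hvy : v * (y ^ l)⁻¹ = y ^ l * v := by
      have h1 : v * y ^ l * v⁻¹ = (y ^ l)⁻¹ := by rw [← conj_pow, hinv, inv_pow]
      calc v * (y ^ l)⁻¹ = v * (v * y ^ l * v⁻¹) := by rw [h1]
        _ = (v * v) * y ^ l * v⁻¹ := by group
        _ = y ^ l * v := by rw [hsq v hv, one_mul, inv_eq_of_mul_eq_one_right (hsq v hv)]
    rw [mul_assoc, hvy, ← mul_assoc, ← pow_add,
      show y ^ (l + l) = y⁻¹ from eq_inv_of_mul_eq_one_left (by
        rw [← pow_succ, show l + l + 1 = orderOf y by omega, pow_orderOf_eq_one]),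
      hy, mul_inv_rev, inv_eq_of_mul_eq_one_right (hsq v hv), mul_assoc, hsq v hv, mul_one,
      inv_eq_of_mul_eq_one_right (hsq w hw)]⟩
  -- at least two classes
  have h2 : 2 ≤ Fintype.card Ω := by
    refine Fintype.one_lt_card_iff.2 ⟨Quotient.mk s ⟨t, ht⟩,
      Quotient.mk s ⟨x * t * x⁻¹, hord x ⟨t, ht⟩⟩, fun h => ?_⟩
    rw [hiff] at h
    change Commute t (x * t * x⁻¹) at h
    have htt := hsq t ht
    have h1 : x * t * x⁻¹ = x ^ 2 * t := by
      have h3 : t * x⁻¹ = x * t := by
        calc t * x⁻¹ = (t * x * t⁻¹)⁻¹ * t := by group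
          _ = x * t := by rw [htx, inv_inv]
      rw [mul_assoc, h3, sq, mul_assoc]
    rw [h1] at h
    have h2 : t * x ^ 2 * t⁻¹ = (x ^ 2)⁻¹ := by rw [← conj_pow, htx, inv_pow]
    have h3 : x ^ 2 = (x ^ 2)⁻¹ := by
      have := h.eq
      rw [mul_assoc (x ^ 2), htt, mul_one, ← mul_assoc] at this
      rw [inv_eq_of_mul_eq_one_right htt] at h2
      exact this.symm.trans h2
    obtain ⟨l, hl⟩ := hxodd
    have h4 : x ^ 4 = 1 := by
      rw [show 4 = 2 + 2 from rfl, pow_add]
      nth_rewrite 1 [h3]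
      exact inv_mul_cancel _
    have h5 := pow_orderOf_eq_one x
    rcases Nat.even_or_odd l with ⟨i, rfl⟩ | ⟨i, rfl⟩
    · rw [hl, show 2 * (i + i) + 1 = 4 * i + 1 by ring, pow_succ, pow_mul, h4, one_pow, one_mul] at h5
      exact hx h5
    · rw [hl, show 2 * (2 * i + 1) + 1 = 4 * i + 3 by ring, pow_add, pow_mul, h4, one_pow, one_mul] at h5
      exact hx (by rw [show x ^ 4 = x ^ 3 * x from pow_succ x 3, h5, one_mul] at h4; exact h4)
  obtain ⟨χ, hχ1, hχ2⟩ := exists_real_constituent hM hfix hsurj h2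
  exact ⟨χ, hχ2, by rw [hχ1]; exact mem_blockOf_self hM χ⟩

/-- **A real non-principal block.** -/
theorem exists_real_block (hM : IsPModular 2 M) : ∀ n : ℕ, ∀ (H : Type u) [Group H] [Fintype H],
    Nat.card H = n → TwoComm H → ∀ x : H, x ≠ 1 → Odd (orderOf x) →
      ∀ c : H, c * x * c⁻¹ = x⁻¹ →
        ∃ χ : IrrCharacter H, χ ∉ Cfsg.principalBlock M H ∧
          SameBlock M (χ : H → ℂ) (conjIrr χ) := by
  intro n
  induction n using Nat.strong_induction_on with
  | _ n ih =>
  intro H _ _ hn hab x hx hxodd c hc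
  haveI : Fact (Nat.Prime 2) := ⟨Nat.prime_two⟩
  by_cases hcent : ∃ z : H, orderOf z = 2 ∧ ∀ g : H, Commute z g
  · obtain ⟨z, hz, hzc⟩ := hcent
    haveI hnorm : (Subgroup.zpowers z).Normal := ⟨fun a ha g => by
      obtain ⟨i, rfl⟩ := ha
      have hgz : Commute g (z ^ i) := (hzc g).symm.zpow_right i
      simp only
      rw [hgz.eq, mul_inv_cancel_right]
      exact ⟨i, rfl⟩⟩
    letI := Fintype.ofFinite (H ⧸ Subgroup.zpowers z)
    have hN : IsPGroup 2 (Subgroup.zpowers z) :=
      IsPGroup.of_card (n := 1) (by rw [Nat.card_zpowers, hz, pow_one])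
    have hlt : Nat.card (H ⧸ Subgroup.zpowers z) < n := by
      rw [← hn, Subgroup.card_eq_card_quotient_mul_card_subgroup (Subgroup.zpowers z),
        Nat.card_zpowers, hz]
      have := Nat.card_pos (α := H ⧸ Subgroup.zpowers z)
      omega
    have hx' : (x : H ⧸ Subgroup.zpowers z) ≠ 1 := by
      rw [Ne, QuotientGroup.eq_one_iff]
      intro hmem
      have hd := Subgroup.orderOf_dvd_natCard (Subgroup.zpowers z) hmem
      rw [Nat.card_zpowers, hz, Nat.dvd_prime Nat.prime_two] at hd
      rcases hd with hd | hd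
      · exact hx (orderOf_eq_one_iff.1 hd)
      · rw [hd] at hxodd; exact absurd hxodd (by decide)
    have hxodd' : Odd (orderOf (x : H ⧸ Subgroup.zpowers z)) :=
      hxodd.of_dvd_nat (orderOf_map_dvd (QuotientGroup.mk' (Subgroup.zpowers z)) x)
    obtain ⟨φ, hφ, hsame⟩ := ih _ hlt (H ⧸ Subgroup.zpowers z) rfl (hab.quotient _ hN) _ hx' hxodd'
      (c : H ⧸ Subgroup.zpowers z) (by rw [← QuotientGroup.mk_mul, ← QuotientGroup.mk_inv,
        ← QuotientGroup.mk_mul, hc, QuotientGroup.mk_inv])
    refine ⟨inflate _ φ, inflate_not_mem_principal hM hz hzc hφ, ?_⟩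
    have := sameBlock_inflate hM (Subgroup.zpowers z) hsame
    rwa [show inflate (Subgroup.zpowers z) (conjIrr φ) = conjIrr (inflate (Subgroup.zpowers z) φ) from
      Subtype.ext rfl] at this
  by_cases hu : ∃ u y d : H, orderOf u = 2 ∧ Commute u y ∧ Commute u d ∧ Odd (orderOf y) ∧
      d * y * d⁻¹ = y⁻¹ ∧ y ≠ 1
  · obtain ⟨u, y, d, hu2, huy, hud, hyodd, hdy, hy1⟩ := hu
    set C := Subgroup.centralizer ({u} : Set H) with hC
    letI : Fintype C := Fintype.ofFinite _
    have hmem : ∀ a : H, Commute u a → a ∈ C := fun a ha => by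
      rw [hC, Subgroup.mem_centralizer_singleton_iff]; exact ha.symm.eq
    have hlt : Nat.card C < n := by
      rw [← hn, ← C.card_mul_index]
      refine lt_mul_of_one_lt_right Nat.card_pos ?_
      refine Subgroup.one_lt_index_of_ne_top fun htop => hcent ⟨u, hu2, fun g => ?_⟩
      have : g ∈ C := htop ▸ Subgroup.mem_top g
      rw [hC, Subgroup.mem_centralizer_singleton_iff] at this
      exact this.symm
    obtain ⟨ξ, hξ, hsame⟩ := ih _ hlt C rfl (hab.subgroup C) ⟨y, hmem y huy⟩
      (fun h => hy1 (congrArg Subtype.val h)) (by rwa [← Subgroup.orderOf_coe])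
      ⟨d, hmem d hud⟩ (Subtype.ext hdy)
    set b := blockOf M (ξ : C → ℂ) with hb
    have hH : C = Subgroup.centralizer (Subgroup.zpowers u : Set H) := (centralizer_zpowers u).symm
    have hdef : InducedBlockDefined M C b := inducedBlockDefined_of_eq_centralizer hM
      (IsPGroup.of_card (n := 1) (by rw [Nat.card_zpowers, hu2, pow_one])) hH (isPBlock_blockOf ξ)
    obtain ⟨B, hB⟩ := hdef
    obtain ⟨χ, hχ⟩ := IsPBlock.nonempty hM hB.2.1
    refine ⟨χ, fun hp => hξ ?_, ?_⟩
    · have hBp : B = Cfsg.principalBlock M H :=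
        IsPBlock.eq_of_mem_inter hM hB.2.1 (isPBlock_blockOf (principal H)) hχ hp
      have := (isInducedBlock_principal_iff hM C ⟨B, hB⟩).1 (hBp ▸ hB)
      rw [← this]
      exact mem_blockOf_self hM ξ
    · refine (sameBlock_iff hM _ _).2 fun g => ?_
      have h1 := small_of_memLocalIdeal hM (hB.2.2 ξ (mem_blockOf_self hM ξ) χ hχ g)
      have h2 := small_of_memLocalIdeal hM (hB.2.2 (conjIrr ξ) hsame χ hχ g⁻¹)
      have hind : inducedCentralChar C (conjIrr ξ : C → ℂ) g⁻¹ =
          inducedCentralChar C (ξ : C → ℂ) g := by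
        unfold inducedCentralChar
        refine finsum_mem_eq_of_bijOn (fun h => h⁻¹) ⟨fun h hh => ?_, fun h _ h' _ e => inv_injective e,
          fun h hh => ⟨h⁻¹, ?_, inv_inv h⟩⟩ fun h _ => ?_
        · obtain ⟨a, ha⟩ := isConj_iff.1 (hh : IsConj g⁻¹ (h : H))
          exact isConj_iff.2 ⟨a, by rw [Subgroup.coe_inv, ← ha]; group⟩
        · obtain ⟨a, ha⟩ := isConj_iff.1 (hh : IsConj g (h : H))
          exact isConj_iff.2 ⟨a, by rw [Subgroup.coe_inv, ← ha]; group⟩
        · rw [conjIrr_apply, conjIrr_apply, inv_one]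
      rw [hind] at h2
      rw [centralChar_conjIrr]
      have := h2.sub h1
      simpa using this
  · refine exists_real_block_base hM hab (fun u h2 y d huy hud hy hdy => ?_) hx hxodd hc
    by_contra hy1
    exact hu ⟨u, y, d, h2, huy, hud, hy, hdy, hy1⟩

end Cfsg.Lib.Blocks.SigmaTwist
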